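import Mathlib.Tactic.Linarith
import Mathlib.Tactic.NormNum
import Mathlib.Tactic.FieldSimp
import Mathlib.Tactic.Ring
import Mathlib.Data.Rat.Lemmas
import Mathlib.Algebra.Order.Field.Basic
import Mathlib.Data.List.Range

/-!
# The finite search for the order of the group
-/

set_option autoImplicit false

namespace Cfsg.Agent.J1Order

/-- The integers `≡ r (mod 8)` of absolute value at most `8 n`. -/
def resList (r : ℤ) (n : ℕ) : List ℤ := (List.range (2 * n)).map fun i : ℕ => 8 * ((i : ℤ) - n) + r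

theorem mem_resList {r x : ℤ} {n : ℕ} (hr : x % 8 = r) (h1 : -(8 * (n : ℤ)) ≤ x - r)
    (h2 : x - r < 8 * n) : x ∈ resList r n := by
  refine List.mem_map.2 ⟨((x - r) / 8 + n).toNat, List.mem_range.2 ?_, ?_⟩ <;> omega

/-- The inner loop of the sunflower configuration. -/
def sunC (I D D2 E : ℤ) : Bool :=
  (resList 3 127).all fun C =>
    let C2 := -1 - E - C
    decide (C2 < C) || decide (-5 < C ∧ C < 35) || decide (-5 < C2 ∧ C2 < 35) ||
    decide (I * (E * C * C2 + C * C2 + 25 * E * (C + C2)) ≠ 720 * E * C * C2) ||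
    decide (120 * I ≤ 2 * D * D + 2 * D2 * D2 + E * E + C * C + C2 * C2) ||
    decide (I = 1463) || decide (I = 1575 ∧ E = -15 ∧ C = -21 ∧ C2 = 35)

/-- The search for the sunflower configuration. -/
def sunCheck : Bool :=
  (resList 3 91).all fun D => decide (-21 < D ∧ D < 0) ||
    (resList 1 81).all fun E =>
      let D2 := -1 - E - D
      let den := E * D * D2 + D * D2 + 9 * E * (D + D2)
      let num := 1200 * E * D * D2
      decide (D2 < D) || decide (-21 < D2 ∧ D2 < 0) || decide (-7 < E ∧ E < 0) || decide (den = 0) ||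
      decide (num % den ≠ 0) || decide (num / den ≤ 0) ||
      decide ((num / den) % 2 = 0) ||
      decide (120 * (num / den) ≤ 2 * D * D + 2 * D2 * D2 + E * E) || sunC (num / den) D D2 E

/-- The inner loop of the triangle configuration. -/
def triC (I F Y : ℤ) : Bool :=
  (resList 3 113).all fun b =>
    let f := -1 - Y - b
    let C := -1 - F - f
    decide (-21 < b ∧ b < 0) || decide (-2 < f ∧ f < 14) || decide (-5 < C ∧ C < 35) ||
    decide (I * (b * f * Y + 9 * f * Y + 4 * b * Y + 36 * b * f) ≠ 1200 * b * f * Y) ||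
    decide (I * (C * F * f + 25 * F * f + 4 * C * f + 4 * C * F) ≠ 720 * C * F * f)

/-- The search for the triangle configuration. -/
def triCheck : Bool :=
  (resList 3 113).all fun B => decide (-21 < B ∧ B < 0) ||
    (resList 6 114).all fun F =>
      let Y := -1 - B - F
      let den := B * F * Y + 9 * F * Y + 4 * B * Y + 36 * B * F
      let num := 1200 * B * F * Y
      decide (-42 < Y ∧ Y < 6) || decide (-2 < F ∧ F < 14) || decide (den = 0) ||
      decide (num % den ≠ 0) || decide (num / den ≤ 0) ||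
      decide ((num / den) % 2 = 0) ||
      decide (120 * (num / den) ≤ B * B + F * F + Y * Y) || triC (num / den) F Y

set_option maxRecDepth 100000 in
theorem sunCheck_eq : sunCheck = true := by decide +kernel

set_option maxRecDepth 100000 in
theorem triCheck_eq : triCheck = true := by decide +kernel

theorem div_lower {c k : ℚ} {x : ℤ} (hc : 0 ≤ c) (hk : 0 < k) (hx : k ≤ x ∨ (x : ℚ) ≤ -k) :
    -(c / k) ≤ c / x := by
  rcases hx with h | h
  · have h1 : 0 ≤ c / k := div_nonneg hc hk.le
    have h2 : 0 ≤ c / (x : ℚ) := div_nonneg hc (le_trans hk.le h)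
    linarith
  · have : c / (-(x : ℚ)) ≤ c / k := div_le_div_of_nonneg_left hc hk (by linarith)
    rw [div_neg] at this
    linarith

theorem lt_of_sq {x N : ℤ} (hN : 0 ≤ N) (h : x * x < N * N) : -N < x ∧ x < N := by
  constructor <;> by_contra hc <;> nlinarith

theorem sum_val {I num den : ℤ} {val : ℚ} (hnum : num ≠ 0) (h : I * den = 1200 * num)
    (hv : val = (den : ℚ) / num) : (I : ℚ) * val = 1200 := by
  have hn : (num : ℚ) ≠ 0 := Int.cast_ne_zero.2 hnum
  rw [hv, ← mul_div_assoc, div_eq_iff hn]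
  exact_mod_cast h

set_option maxHeartbeats 1000000 in
/-- The sunflower configuration: `I = 1463` or the spurious solution. -/
theorem sun_aux {I D D2 E C C2 : ℤ} (hI : 0 < I) (hodd : I % 2 = 1)
    (hE8 : E % 8 = 1) (hE : 0 < E ∨ E ≤ -7)
    (hD8 : D % 8 = 3) (hD : 0 < D ∨ D ≤ -21) (hD28 : D2 % 8 = 3) (hD2 : 0 < D2 ∨ D2 ≤ -21)
    (hC8 : C % 8 = 3) (hC : 35 ≤ C ∨ C ≤ -5) (hC2 : 35 ≤ C2 ∨ C2 ≤ -5)
    (hDsum : D2 = -1 - E - D) (hCsum : C2 = -1 - E - C) (hDle : D ≤ D2) (hCle : C ≤ C2)
    (h1 : I * (E * D * D2 + D * D2 + 9 * E * (D + D2)) = 1200 * E * D * D2)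
    (h2 : I * (E * C * C2 + C * C2 + 25 * E * (C + C2)) = 720 * E * C * C2)
    (hsq : 2 * D * D + 2 * D2 * D2 + E * E + C * C + C2 * C2 < 120 * I) :
    I = 1463 ∨ (I = 1575 ∧ E = -15 ∧ C = -21 ∧ C2 = 35) := by
  have hne : E * D * D2 ≠ 0 := by
    refine mul_ne_zero (mul_ne_zero ?_ ?_) ?_ <;> omega
  have hv : ((1 : ℚ) + 1 / E + 9 / D + 9 / D2) =
      ((E * D * D2 + D * D2 + 9 * E * (D + D2) : ℤ) : ℚ) / (E * D * D2 : ℤ) := by
    have e1 : (E : ℚ) ≠ 0 := Int.cast_ne_zero.2 (by omega)
    have e2 : (D : ℚ) ≠ 0 := Int.cast_ne_zero.2 (by omega)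
    have e3 : (D2 : ℚ) ≠ 0 := Int.cast_ne_zero.2 (by omega)
    push_cast
    field_simp
    ring
  have hIv := sum_val (I := I) hne (by rw [h1]; ring) hv
  have hIq : (0 : ℚ) < I := by exact_mod_cast hI
  have hI2 : I ≤ 8400 := by
    have hval : (1 : ℚ) / 7 ≤ 1 + 1 / E + 9 / D + 9 / D2 := by
      by_cases hp : D2 < 0
      · have hE' : (41 : ℤ) ≤ E := by omega
        have a1 : (0 : ℚ) ≤ 1 / E := div_nonneg zero_le_one (by exact_mod_cast (by omega : (0 : ℤ) ≤ E))
        have a2 := div_lower (c := 9) (k := 21) (x := D) (by norm_num) (by norm_num)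
          (Or.inr (by exact_mod_cast (by omega : D ≤ -21)))
        have a3 := div_lower (c := 9) (k := 21) (x := D2) (by norm_num) (by norm_num)
          (Or.inr (by exact_mod_cast (by omega : D2 ≤ -21)))
        linarith
      · have a1 : -((1 : ℚ) / 7) ≤ 1 / E := by
          rcases hE with h | h
          · have : (0 : ℚ) ≤ 1 / E := div_nonneg zero_le_one (by exact_mod_cast h.le)
            linarith
          · exact div_lower (c := 1) (k := 7) (x := E) (by norm_num) (by norm_num)
              (Or.inr (by exact_mod_cast h))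
        have a3 : (0 : ℚ) ≤ 9 / D2 :=
          div_nonneg (by norm_num) (by exact_mod_cast (by omega : (0 : ℤ) ≤ D2))
        rcases hD with h | h
        · have : (0 : ℚ) ≤ 9 / D :=
            div_nonneg (by norm_num) (by exact_mod_cast h.le)
          linarith
        · have := div_lower (c := 9) (k := 21) (x := D) (by norm_num) (by norm_num)
            (Or.inr (by exact_mod_cast h))
          linarith
    have : (I : ℚ) ≤ 8400 := by nlinarith [mul_le_mul_of_nonneg_left hval hIq.le]
    exact_mod_cast this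
  have q1 := mul_self_nonneg D
  have q2 := mul_self_nonneg D2
  have q3 := mul_self_nonneg E
  have q4 := mul_self_nonneg C
  have q5 := mul_self_nonneg C2
  have bD : -712 < D ∧ D < 712 := by
    have hDD : D * D < 504000 := by linarith
    exact lt_of_sq (by norm_num) (lt_trans hDD (by norm_num))
  have bE : -640 < E ∧ E < 640 := by
    have e1 : 2 * (D * D + D2 * D2) = (1 + E) * (1 + E) + (D - D2) * (D - D2) := by
      rw [hDsum]; ring
    have e2 : 2 * (C * C + C2 * C2) = (1 + E) * (1 + E) + (C - C2) * (C - C2) := by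
      rw [hCsum]; ring
    have hEE : 3 * ((1 + E) * (1 + E)) + 2 * (E * E) < 2016000 := by
      have := mul_self_nonneg (D - D2)
      have := mul_self_nonneg (C - C2)
      linarith
    constructor
    · by_contra hc
      have := Int.mul_le_mul (show 640 ≤ -E by omega) (show 3194 ≤ -(5 * E + 6) by omega)
        (by norm_num) (by omega)
      linarith
    · by_contra hc
      have := Int.mul_le_mul (show 640 ≤ E by omega) (show 640 ≤ E by omega) (by norm_num) (by omega)
      linarith
  have bC : -1008 < C ∧ C < 1008 := by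
    have hCC : C * C < 1008000 := by linarith
    exact lt_of_sq (by norm_num) (lt_trans hCC (by norm_num))
  have key := sunCheck_eq
  simp only [sunCheck, List.all_eq_true, Bool.or_eq_true, decide_eq_true_eq] at key
  have k1 := key D (mem_resList hD8 (by omega) (by omega))
  rcases k1 with k1 | k1
  · omega
  have k2 := k1 E (mem_resList hE8 (by omega) (by omega))
  rw [← hDsum] at k2
  set den := E * D * D2 + D * D2 + 9 * E * (D + D2) with hden
  have hd0 : den ≠ 0 := by
    intro h0
    rw [h0, mul_zero] at h1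
    apply hne
    linarith
  have hq : 1200 * E * D * D2 / den = I := by rw [← h1, Int.mul_ediv_cancel _ hd0]
  have hm : 1200 * E * D * D2 % den = 0 := by rw [← h1, Int.mul_emod_left]
  rw [hq, hm] at k2
  rcases k2 with (((((((k | k) | k) | k) | k) | k) | k) | k) | k
  all_goals first
    | omega
    | (exfalso; nlinarith)
    | skip
  simp only [sunC, List.all_eq_true, Bool.or_eq_true, decide_eq_true_eq] at k
  have k3 := k C (mem_resList hC8 (by omega) (by omega))
  rw [← hCsum] at k3
  rcases k3 with (((((k | k) | k) | k) | k) | k) | k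
  all_goals first
    | omega
    | exact absurd h2 k

/-- Bounds in the triangle configuration. -/
theorem tri_bound {I B F Y : ℤ} (hI : 0 < I) (hB : 0 < B ∨ B ≤ -21) (hF : 14 ≤ F ∨ F ≤ -2)
    (hY : 6 ≤ Y ∨ Y ≤ -42) (hF8 : F % 8 = 6) (hsum : B + F + Y = -1)
    (h1 : I * (B * F * Y + 9 * F * Y + 4 * B * Y + 36 * B * F) = 1200 * B * F * Y)
    (hsq : B * B + F * F + Y * Y < 120 * I) : (-900 < B ∧ B < 900) ∧ (-900 < F ∧ F < 900) := by
  by_contra hbig
  have hbig' : 900 ≤ B ∨ B ≤ -900 ∨ 900 ≤ F ∨ F ≤ -900 := by omega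
  have hne : B * F * Y ≠ 0 := by
    refine mul_ne_zero (mul_ne_zero ?_ ?_) ?_ <;> omega
  have hv : ((1 : ℚ) + 9 / B + 4 / F + 36 / Y) =
      ((B * F * Y + 9 * F * Y + 4 * B * Y + 36 * B * F : ℤ) : ℚ) / (B * F * Y : ℤ) := by
    have e1 : (B : ℚ) ≠ 0 := Int.cast_ne_zero.2 (by omega)
    have e2 : (F : ℚ) ≠ 0 := Int.cast_ne_zero.2 (by omega)
    have e3 : (Y : ℚ) ≠ 0 := Int.cast_ne_zero.2 (by omega)
    push_cast
    field_simp
  have hIv := sum_val (I := I) hne (by rw [h1]; ring) hv
  have hIq : (0 : ℚ) < I := by exact_mod_cast hI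
  have hsq' : (B * B + F * F + Y * Y : ℚ) < 120 * I := by exact_mod_cast hsq
  have large : ∀ (x : ℤ) (k : ℤ), k ≤ x ∨ x ≤ -k → (k : ℚ) ≤ x ∨ (x : ℚ) ≤ -k := fun x k h =>
    h.imp (fun h => by exact_mod_cast h) (fun h => by exact_mod_cast h)
  have sqb : ∀ (x : ℤ) (k : ℤ), 0 ≤ k → (k ≤ x ∨ x ≤ -k) → k * k ≤ x * x := by
    intro x k hk h; rcases h with h | h <;> nlinarith
  by_cases cY : -300 < Y ∧ Y < 300
  · have lB : 599 ≤ B ∨ B ≤ -599 := by omega
    have lF : 599 ≤ F ∨ F ≤ -599 := by omega
    have a3 := div_lower (c := 36) (k := 42) (x := Y) (by norm_num) (by norm_num)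
    have hbig2 : (1168000 : ℤ) ≤ B * B + F * F := by
      by_cases h9 : 900 ≤ B ∨ B ≤ -900
      · have := sqb B 900 (by norm_num) h9; have := sqb F 599 (by norm_num) lF; linarith
      · have := sqb F 900 (by norm_num) (by omega); have := sqb B 599 (by norm_num) lB; linarith
    have hval : (127 : ℚ) / 1000 ≤ 1 + 9 / B + 4 / F + 36 / Y := by
      have a3' : -((36 : ℚ) / 42) ≤ 36 / Y := by
        rcases hY with h | h
        · have : (0 : ℚ) ≤ 36 / Y := div_nonneg (by norm_num) (by exact_mod_cast (by omega : (0 : ℤ) ≤ Y))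
          linarith
        · exact a3 (Or.inr (by exact_mod_cast h))
      rcases lB with h | h
      · have a1 : (0 : ℚ) ≤ 9 / B := div_nonneg (by norm_num) (by exact_mod_cast (by omega : (0 : ℤ) ≤ B))
        have a2 := div_lower (c := 4) (k := 599) (x := F) (by norm_num) (by norm_num)
          (by exact_mod_cast lF)
        linarith
      · have a1 := div_lower (c := 9) (k := 599) (x := B) (by norm_num) (by norm_num)
          (Or.inr (by exact_mod_cast h))
        have a2 : (0 : ℚ) ≤ 4 / F := div_nonneg (by norm_num) (by exact_mod_cast (by omega : (0 : ℤ) ≤ F))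
        linarith
    have hbq : (1168000 : ℚ) ≤ B * B + F * F := by exact_mod_cast hbig2
    nlinarith [mul_le_mul_of_nonneg_left hval hIq.le, mul_self_nonneg (Y : ℚ)]
  have lY : 300 ≤ Y ∨ Y ≤ -300 := by omega
  have a3 := div_lower (c := 36) (k := 300) (x := Y) (by norm_num) (by norm_num)
    (by exact_mod_cast lY)
  have hbq : (810000 : ℚ) ≤ B * B + F * F := by
    have : (810000 : ℤ) ≤ B * B + F * F := by
      rcases hbig' with h | h | h | h <;> nlinarith
    exact_mod_cast this
  by_cases cF : F = -2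
  · subst cF
    have lB : 599 ≤ B ∨ B ≤ -599 := by omega
    have lY' : 599 ≤ Y ∨ Y ≤ -599 := by omega
    have u1 : (9 : ℚ) / B ≤ 9 / 599 := by
      rcases lB with h | h
      · exact div_le_div_of_nonneg_left (by norm_num) (by norm_num) (by exact_mod_cast h)
      · have : (9 : ℚ) / B ≤ 0 := div_nonpos_of_nonneg_of_nonpos (by norm_num) (by exact_mod_cast (by omega : B ≤ 0))
        linarith
    have u2 : (36 : ℚ) / Y ≤ 36 / 599 := by
      rcases lY' with h | h
      · exact div_le_div_of_nonneg_left (by norm_num) (by norm_num) (by exact_mod_cast h)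
      · have : (36 : ℚ) / Y ≤ 0 := div_nonpos_of_nonneg_of_nonpos (by norm_num) (by exact_mod_cast (by omega : Y ≤ 0))
        linarith
    push_cast at hIv
    nlinarith
  have a1 := div_lower (c := 9) (k := 21) (x := B) (by norm_num) (by norm_num)
  have a2 := div_lower (c := 4) (k := 10) (x := F) (by norm_num) (by norm_num)
    (by
      rcases hF with h | h
      · exact Or.inl (by exact_mod_cast (by omega : (10 : ℤ) ≤ F))
      · exact Or.inr (by exact_mod_cast (by omega : F ≤ -10)))
  have hval : (3 : ℚ) / 10 ≤ 1 + 9 / B + 4 / F + 36 / Y := by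
    by_cases cB : -300 < B ∧ B < 300
    · have a2' := div_lower (c := 4) (k := 500) (x := F) (by norm_num) (by norm_num)
        (by exact_mod_cast (by omega : 500 ≤ F ∨ F ≤ -500))
      have a1' : -((9 : ℚ) / 21) ≤ 9 / B := by
        rcases hB with h | h
        · have : (0 : ℚ) ≤ 9 / B := div_nonneg (by norm_num) (by exact_mod_cast h.le)
          linarith
        · exact a1 (Or.inr (by exact_mod_cast h))
      linarith
    · have a1' := div_lower (c := 9) (k := 300) (x := B) (by norm_num) (by norm_num)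
        (by exact_mod_cast (by omega : 300 ≤ B ∨ B ≤ -300))
      linarith
  nlinarith [mul_le_mul_of_nonneg_left hval hIq.le, mul_self_nonneg (Y : ℚ)]

/-- The triangle configuration does not occur. -/
theorem tri_false {I B F b f Y C : ℤ} (hI : 0 < I) (hodd : I % 2 = 1)
    (hB8 : B % 8 = 3) (hB : 0 < B ∨ B ≤ -21) (hF8 : F % 8 = 6) (hF : 14 ≤ F ∨ F ≤ -2)
    (hb8 : b % 8 = 3) (hb : 0 < b ∨ b ≤ -21) (hf8 : f % 8 = 6) (hf : 14 ≤ f ∨ f ≤ -2)
    (hY : 6 ≤ Y ∨ Y ≤ -42) (hC : 35 ≤ C ∨ C ≤ -5)
    (hs1 : B + F + Y = -1) (hs2 : b + f + Y = -1) (hs3 : C + F + f = -1)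
    (h1 : I * (B * F * Y + 9 * F * Y + 4 * B * Y + 36 * B * F) = 1200 * B * F * Y)
    (h2 : I * (b * f * Y + 9 * f * Y + 4 * b * Y + 36 * b * f) = 1200 * b * f * Y)
    (h3 : I * (C * F * f + 25 * F * f + 4 * C * f + 4 * C * F) = 720 * C * F * f)
    (hsq : B * B + F * F + b * b + f * f + Y * Y < 120 * I) : False := by
  have bB := tri_bound hI hB hF hY hF8 hs1 h1 (by nlinarith)
  have bb := tri_bound hI hb hf hY hf8 hs2 h2 (by nlinarith)
  have key := triCheck_eq
  simp only [triCheck, List.all_eq_true, Bool.or_eq_true, decide_eq_true_eq] at key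
  have k1 := key B (mem_resList hB8 (by omega) (by omega))
  rcases k1 with k1 | k1
  · omega
  have k2 := k1 F (mem_resList hF8 (by omega) (by omega))
  have eY : -1 - B - F = Y := by omega
  rw [eY] at k2
  set den := B * F * Y + 9 * F * Y + 4 * B * Y + 36 * B * F with hden
  have hd0 : den ≠ 0 := by
    intro h0
    rw [h0, mul_zero] at h1
    have : B * F * Y ≠ 0 := by
      refine mul_ne_zero (mul_ne_zero ?_ ?_) ?_ <;> omega
    apply this
    linarith
  have hq : 1200 * B * F * Y / den = I := by rw [← h1, Int.mul_ediv_cancel _ hd0]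
  have hm : 1200 * B * F * Y % den = 0 := by rw [← h1, Int.mul_emod_left]
  rw [hq, hm] at k2
  rcases k2 with ((((((k | k) | k) | k) | k) | k) | k) | k
  all_goals first
    | omega
    | (exfalso; nlinarith)
    | skip
  simp only [triC, List.all_eq_true, Bool.or_eq_true, decide_eq_true_eq] at k
  have k3 := k b (mem_resList hb8 (by omega) (by omega))
  have ef : -1 - Y - b = f := by omega
  have eC : -1 - F - f = C := by omega
  rw [ef, eC] at k3
  rcases k3 with (((k | k) | k) | k) | k
  all_goals first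
    | omega
    | exact absurd h2 k
    | exact absurd h3 k

end Cfsg.Agent.J1Order
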