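import Cfsg.Agent.BSWall.Combin
import Cfsg.Agent.J1Order.Arith
import Mathlib.Tactic.FinCases
import Mathlib.Tactic.LinearCombination
import Mathlib.Data.Fin.VecNotation
import Mathlib.LinearAlgebra.Matrix.Notation

/-!
# The possible configurations of the constituents
-/

set_option autoImplicit false

namespace Cfsg.Agent.J1Order

open Finset

variable {ι : Type*} [Fintype ι] [DecidableEq ι]

theorem sq_le_one {a : ℤ} (h : a = 0 ∨ a = 1 ∨ a = -1) : a * a ≤ 1 := by
  rcases h with rfl | rfl | rfl <;> norm_num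

/-- A vector of norm 1 is a signed unit vector. -/
theorem norm_one_split {r : ι → ℤ} (h : ∑ x, r x * r x = 1) :
    ∃ p, (r p = 1 ∨ r p = -1) ∧ ∀ x, x ≠ p → r x = 0 := by
  have hcard := BSWall.card_support (c := r) (by omega)
  rw [h] at hcard
  obtain ⟨p, hp⟩ := Finset.card_eq_one.1 (by exact_mod_cast hcard :
    ({x | r x ≠ 0} : Finset ι).card = 1)
  have hmem : ∀ x, r x ≠ 0 ↔ x = p := fun x => by
    rw [← Finset.mem_singleton, ← hp]; simp
  exact ⟨p, (BSWall.coeff_small (by omega) p).resolve_left ((hmem p).2 rfl),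
    fun x hx => by by_contra h0; exact hx ((hmem x).1 h0)⟩

/-- A vector of norm 2 is a sum of two signed unit vectors. -/
theorem norm_two_split {r : ι → ℤ} (h : ∑ x, r x * r x = 2) :
    ∃ p q, p ≠ q ∧ (r p = 1 ∨ r p = -1) ∧ (r q = 1 ∨ r q = -1) ∧
      ∀ x, x ≠ p → x ≠ q → r x = 0 := by
  have hcard := BSWall.card_support (c := r) (by omega)
  rw [h] at hcard
  obtain ⟨p, q, hpq, hs⟩ := Finset.card_eq_two.1 (by exact_mod_cast hcard :
    ({x | r x ≠ 0} : Finset ι).card = 2)
  have hmem : ∀ x, r x ≠ 0 ↔ (x = p ∨ x = q) := fun x => by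
    have : x ∈ ({x | r x ≠ 0} : Finset ι) ↔ x ∈ ({p, q} : Finset ι) := by rw [hs]
    simpa using this
  have hs' := BSWall.coeff_small (c := r) (by omega)
  exact ⟨p, q, hpq, (hs' p).resolve_left ((hmem p).2 (Or.inl rfl)),
    (hs' q).resolve_left ((hmem q).2 (Or.inr rfl)),
    fun x hx hy => by by_contra h0; rcases (hmem x).1 h0 with e | e <;> contradiction⟩

/-- The data: coefficients of the four functions. -/
structure Cfg (o : ι) (d v : ι → ℤ) (c : Fin 4 → ι → ℤ) (I : ℤ) : Prop where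
  dpos : ∀ x, 0 < d x
  do1 : d o = 1
  co : ∀ i, c i o = ![0, 1, 1, 1] i
  gram : ∀ i j, ∑ x, c i x * c j x =
    (![![2, 0, 0, 0], ![0, 4, 2, 2], ![0, 2, 4, 2], ![0, 2, 2, 4]] i j : ℤ)
  deg : ∀ i, ∑ x, c i x * d x = 0
  hv : ∀ x, v x = 4 * c 0 x + 3 * c 1 x + 3 * c 2 x - 5 * c 3 x
  ord : ∀ i, (I : ℚ) * ∑ x, ((v x * v x * c i x : ℤ) : ℚ) / d x = ![0, 1200, 1200, 720] i
  e8 : ∀ x, ∃ n : ℕ, d x + 7 * v x = 8 * n
  sq : ∑ x, d x * d x = 120 * I
  ipos : 0 < I
  iodd : I % 2 = 1

/-- The outcome: either the order is that of `J₁`, or the spurious configuration. -/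
def Outcome (o : ι) (d v : ι → ℤ) (c : Fin 4 → ι → ℤ) (I : ℤ) : Prop :=
  I = 1463 ∨ ∃ x p q,
    (d x = 15 ∧ v x = -1 ∧ c 0 x + c 3 x = -1 ∧ c 3 x = -1) ∧
    (d p = 21 ∧ v p = 5 ∧ c 0 p + c 3 p = -1 ∧ c 3 p = -1) ∧
    (d q = 35 ∧ v q = -5 ∧ c 0 q + c 3 q = 1 ∧ c 3 q = 1) ∧
    (x ≠ o ∧ p ≠ o ∧ q ≠ o ∧ x ≠ p ∧ x ≠ q ∧ p ≠ q) ∧
    ∀ y, y ≠ o → y ≠ x → y ≠ p → y ≠ q → c 3 y = 0

namespace Cfg

variable {o : ι} {d v : ι → ℤ} {c : Fin 4 → ι → ℤ} {I : ℤ} (H : Cfg o d v c I)

/-- The vectors without the principal character. -/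
def b (o : ι) (c : Fin 4 → ι → ℤ) (i : Fin 4) (x : ι) : ℤ := if x = o then 0 else c i x

theorem b_ne {i : Fin 4} {x : ι} (hx : x ≠ o) : b o c i x = c i x := if_neg hx

theorem b_self {i : Fin 4} : b o c i o = 0 := if_pos rfl

theorem split_o (i : Fin 4) (f : ι → ℤ) :
    ∑ x, c i x * f x = c i o * f o + ∑ x, b o c i x * f x := by
  rw [← Finset.add_sum_erase _ _ (Finset.mem_univ o), ← Finset.add_sum_erase Finset.univ
    (fun x => b o c i x * f x) (Finset.mem_univ o), b_self, zero_mul, zero_add]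
  congr 1
  exact Finset.sum_congr rfl fun x hx => by rw [b_ne (Finset.ne_of_mem_erase hx)]

include H

theorem bgram (i j : Fin 4) : ∑ x, b o c i x * b o c j x =
    (![![2, 0, 0, 0], ![0, 3, 1, 1], ![0, 1, 3, 1], ![0, 1, 1, 3]] i j : ℤ) := by
  have h1 := split_o (o := o) i (c j) (c := c)
  rw [H.gram, H.co, H.co] at h1
  have h2 : ∑ x, b o c i x * c j x = ∑ x, b o c i x * b o c j x :=
    Finset.sum_congr rfl fun x _ => by
      by_cases hx : x = o
      · subst hx; rw [b_self, zero_mul, zero_mul]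
      · rw [b_ne (i := j) hx]
  rw [h2] at h1
  fin_cases i <;> fin_cases j <;> simp at h1 ⊢ <;> omega

theorem bdeg (i : Fin 4) : ∑ x, b o c i x * d x = -![0, 1, 1, 1] i := by
  have h1 := split_o (o := o) i d (c := c)
  rw [H.deg, H.co, H.do1] at h1
  fin_cases i <;> simp at h1 ⊢ <;> omega

/-- Two of the last three vectors share exactly one constituent, with equal signs. -/
theorem common {i j : Fin 4} (hij : i ≠ j) (hi : i ≠ 0) (hj : j ≠ 0) :
    ∃ x, x ≠ o ∧ b o c i x ≠ 0 ∧ b o c j x = b o c i x ∧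
      ∀ y, y ≠ x → b o c i y = 0 ∨ b o c j y = 0 := by
  have nij : ∑ x, b o c i x * b o c i x = 3 ∧ ∑ x, b o c j x * b o c j x = 3 ∧
      ∑ x, b o c i x * b o c j x = 1 := by
    refine ⟨?_, ?_, ?_⟩ <;> rw [H.bgram] <;> fin_cases i <;> fin_cases j <;> simp_all
  have dij : ∑ x, b o c i x * d x = ∑ x, b o c j x * d x := by
    rw [H.bdeg, H.bdeg]; fin_cases i <;> fin_cases j <;> simp_all
  have si := BSWall.coeff_small (c := b o c i) (by omega)
  have sj := BSWall.coeff_small (c := b o c j) (by omega)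
  have n4 : ∑ x, (b o c i x - b o c j x) * (b o c i x - b o c j x) = 4 := by
    have e : ∀ x, (b o c i x - b o c j x) * (b o c i x - b o c j x) =
        b o c i x * b o c i x + b o c j x * b o c j x - 2 * (b o c i x * b o c j x) :=
      fun x => by ring
    simp only [e, Finset.sum_sub_distrib, Finset.sum_add_distrib, ← Finset.mul_sum]
    omega
  have nonneg : ∀ x, 0 ≤ b o c i x * b o c j x := by
    intro z
    by_contra hneg
    have hz : (b o c i z - b o c j z) * (b o c i z - b o c j z) = 4 := by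
      rcases si z with e | e | e <;> rcases sj z with e' | e' | e' <;> simp [e, e'] at hneg ⊢
    have rest : ∀ x, x ≠ z → b o c i x - b o c j x = 0 := by
      intro x hx
      have h2 := Finset.add_le_sum (s := (Finset.univ : Finset ι))
        (f := fun y => (b o c i y - b o c j y) * (b o c i y - b o c j y))
        (fun y _ => mul_self_nonneg _) (Finset.mem_univ z) (Finset.mem_univ x) hx.symm
      simp only [hz, n4] at h2
      exact mul_self_eq_zero.1 (le_antisymm (by linarith) (mul_self_nonneg _))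
    have h0 : ∑ x, (b o c i x - b o c j x) * d x = 0 := by
      simp only [sub_mul, Finset.sum_sub_distrib, dij, sub_self]
    rw [Finset.sum_eq_single z (fun x _ hx => by rw [rest x hx, zero_mul]) (by simp)] at h0
    rcases mul_eq_zero.1 h0 with e | e
    · rw [e] at hz; norm_num at hz
    · exact absurd e (H.dpos z).ne'
  obtain ⟨x, hx⟩ : ∃ x, b o c i x * b o c j x ≠ 0 := by
    by_contra hcon
    push Not at hcon
    have := nij.2.2
    simp [hcon] at this
  have hxo : x ≠ o := fun e => hx (by rw [e, b_self, zero_mul])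
  obtain ⟨hxi, hxj⟩ := mul_ne_zero_iff.1 hx
  refine ⟨x, hxo, hxi, ?_, fun y hy => ?_⟩
  · have := nonneg x
    rcases si x with e | e | e <;> rcases sj x with e' | e' | e' <;>
      simp [e, e'] at this hxi hxj ⊢
  · have h2 := Finset.add_le_sum (s := (Finset.univ : Finset ι))
      (f := fun y => b o c i y * b o c j y) (fun y _ => nonneg y) (Finset.mem_univ x)
      (Finset.mem_univ y) hy.symm
    simp only [nij.2.2] at h2
    have := nonneg x
    have := nonneg y
    exact mul_eq_zero.1 (by omega)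

/-- The first vector is disjoint from the others. -/
theorem zero_of_ne {i : Fin 4} (hi : i ≠ 0) {x : ι} (hx : b o c i x ≠ 0) : c 0 x = 0 := by
  have hc0 : ∀ y, c 0 y = b o c 0 y := fun y => by
    by_cases hy : y = o
    · subst hy; rw [b_self, H.co]; rfl
    · rw [b_ne hy]
  have n2 : ∑ y, c 0 y * c 0 y = 2 := by rw [H.gram]; rfl
  obtain ⟨z1, z2, hz, h1, h2, h0⟩ := norm_two_split n2
  have hdeg := H.deg 0
  rw [Finset.sum_eq_add z1 z2 hz (fun y _ hy => by rw [h0 y hy.1 hy.2, zero_mul]) (by simp) (by simp)] at hdeg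
  have d1 := H.dpos z1
  have d2 := H.dpos z2
  have hneg : c 0 z2 = -c 0 z1 ∧ d z2 = d z1 := by
    rcases h1 with e | e <;> rcases h2 with e' | e' <;> rw [e, e'] at hdeg ⊢ <;> omega
  have hz1o : z1 ≠ o := fun e => by rw [e, H.co] at h1; simp at h1
  have hz2o : z2 ≠ o := fun e => by rw [e, H.co] at h2; simp at h2
  have heq : ∀ j, j ≠ 0 → c j z2 = c j z1 := by
    intro j hj
    have hg := H.gram 0 j
    rw [Finset.sum_eq_add z1 z2 hz (fun y _ hy => by rw [h0 y hy.1 hy.2, zero_mul]) (by simp) (by simp),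
      hneg.1] at hg
    have : c 0 z1 * (c j z1 - c j z2) = 0 := by
      rw [mul_sub]
      fin_cases j <;> simp_all <;> linarith
    rcases mul_eq_zero.1 this with e | e
    · omega
    · omega
  by_contra hne
  have hxz : x = z1 ∨ x = z2 := by
    by_contra hcon
    push Not at hcon
    exact hne (h0 x hcon.1 hcon.2)
  have hiz : c i z1 ≠ 0 := by
    rcases hxz with rfl | rfl
    · rwa [b_ne hz1o] at hx
    · rw [← heq i hi]; rwa [b_ne hz2o] at hx
  have only : ∀ j, j ≠ 0 → j ≠ i → c j z1 = 0 := by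
    intro j hj hji
    by_contra hjz
    obtain ⟨y, -, -, -, huniq⟩ := H.common hji hj hi
    have k1 : z1 = y := by
      by_contra hcon
      rcases huniq z1 hcon with e | e <;> rw [b_ne hz1o] at e
      · exact hjz e
      · exact hiz e
    have k2 : z2 = y := by
      by_contra hcon
      rcases huniq z2 hcon with e | e <;> rw [b_ne hz2o] at e
      · exact hjz (by rw [← heq j hj]; exact e)
      · exact hiz (by rw [← heq i hi]; exact e)
    exact hz (k1.trans k2.symm)
  have hord := H.ord 0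
  rw [Finset.sum_eq_add z1 z2 hz (fun y _ hy => by rw [h0 y hy.1 hy.2]; simp) (by simp) (by simp),
    hneg.2] at hord
  have hI : (I : ℚ) ≠ 0 := Int.cast_ne_zero.2 H.ipos.ne'
  have hd : (d z1 : ℚ) ≠ 0 := Int.cast_ne_zero.2 d1.ne'
  simp only [Matrix.cons_val_zero, mul_eq_zero, hI, false_or, ← add_div, div_eq_zero_iff, hd,
    or_false] at hord
  have hord' : v z1 * v z1 * c 0 z1 + v z2 * v z2 * c 0 z2 = 0 := by exact_mod_cast hord
  rw [H.hv, H.hv, hneg.1, heq 1 (by decide), heq 2 (by decide), heq 3 (by decide)] at hord'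
  have hw : c 0 z1 * c 0 z1 * (3 * c 1 z1 + 3 * c 2 z1 - 5 * c 3 z1) = 0 := by linarith
  have hw' : 3 * c 1 z1 + 3 * c 2 z1 - 5 * c 3 z1 = 0 := by
    rcases h1 with e | e <;> rw [e] at hw <;> omega
  fin_cases i
  · exact hi rfl
  · have := only 2 (by decide) (by decide); have := only 3 (by decide) (by decide); simp_all
  · have := only 1 (by decide) (by decide); have := only 3 (by decide) (by decide); simp_all
  · have := only 1 (by decide) (by decide); have := only 2 (by decide) (by decide); simp_all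

theorem sums (i : Fin 4) (hi : i ≠ 0) (f : ι → ℤ) :
    ∑ y, c i y * f y = f o + ∑ y, b o c i y * f y := by
  rw [split_o (o := o) i f, H.co]
  fin_cases i <;> simp_all

theorem ordb (i : Fin 4) (hi : i ≠ 0) :
    (I : ℚ) * (1 + ∑ y, ((v y * v y * b o c i y : ℤ) : ℚ) / d y) = ![0, 1200, 1200, 720] i := by
  rw [← H.ord i]
  congr 1
  have hvo : v o = 1 := by
    rw [H.hv, H.co, H.co, H.co, H.co]; rfl
  rw [← Finset.add_sum_erase _ _ (Finset.mem_univ o), ← Finset.add_sum_erase Finset.univ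
    (fun y => ((v y * v y * c i y : ℤ) : ℚ) / d y) (Finset.mem_univ o), b_self, mul_zero,
    Int.cast_zero, zero_div, zero_add, hvo, H.do1, H.co]
  congr 1
  · fin_cases i <;> simp_all
  · exact Finset.sum_congr rfl fun y hy => by rw [b_ne (Finset.ne_of_mem_erase hy)]

/-- The signed degree: congruence and range. -/
theorem signed {i : Fin 4} {x : ι} {base : ℤ} (hb : b o c i x = 1 ∨ b o c i x = -1)
    (hv : v x = b o c i x * base) :
    (b o c i x * d x) % 8 = base % 8 ∧
      ((0 < b o c i x * d x ∧ 0 ≤ b o c i x * d x + 7 * base) ∨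
        (b o c i x * d x < 0 ∧ b o c i x * d x ≤ -7 * base)) ∧
      ((v x * v x * b o c i x : ℤ) : ℚ) / d x = (base * base : ℤ) / ((b o c i x * d x : ℤ) : ℚ) := by
  obtain ⟨n, hn⟩ := H.e8 x
  have := H.dpos x
  rcases hb with e | e <;> rw [e] at hv ⊢ <;> refine ⟨by omega, by omega, ?_⟩ <;>
    rw [hv] <;> push_cast <;> ring

/-- Sum over a vector supported on three points. -/
theorem sum_three {M : Type*} [AddCommMonoid M] {x y z : ι} (hxy : x ≠ y) (hxz : x ≠ z)
    (hyz : y ≠ z) {f : ι → M} (hf : ∀ w, w ≠ x → w ≠ y → w ≠ z → f w = 0) :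
    ∑ w, f w = f x + f y + f z := by
  have := H.ipos
  rw [← Finset.sum_subset (Finset.subset_univ ({x, y, z} : Finset ι)) (fun w _ hw => by
    simp only [Finset.mem_insert, Finset.mem_singleton, not_or] at hw
    exact hf w hw.1 hw.2.1 hw.2.2), Finset.sum_insert (by simp [hxy, hxz]),
    Finset.sum_pair hyz, add_assoc]

/-- The bound from the sum of the squares of the degrees. -/
theorem sq_bound (w : ι → ℤ) (h1 : ∀ x, w x ≤ 1) (ho : w o = 0) :
    ∑ x, w x * (d x * d x) < 120 * I := by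
  rw [← H.sq]
  refine Finset.sum_lt_sum (fun x _ => ?_) ⟨o, Finset.mem_univ o, ?_⟩
  · nlinarith [h1 x, mul_self_nonneg (d x)]
  · rw [ho, H.do1]; norm_num

theorem rest_two {i : Fin 4} (hi : i ≠ 0) {x : ι} (hx : b o c i x ≠ 0) :
    ∃ p q, p ≠ q ∧ x ≠ p ∧ x ≠ q ∧ (b o c i p = 1 ∨ b o c i p = -1) ∧
      (b o c i q = 1 ∨ b o c i q = -1) ∧
      ∀ w, w ≠ x → w ≠ p → w ≠ q → b o c i w = 0 := by
  have n3 : ∑ y, b o c i y * b o c i y = 3 := by
    rw [H.bgram]; fin_cases i <;> simp_all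
  have s := BSWall.coeff_small (c := b o c i) (by omega)
  let r : ι → ℤ := fun y => if y = x then 0 else b o c i y
  have n2 : ∑ y, r y * r y = 2 := by
    have e1 := Finset.add_sum_erase Finset.univ (fun y => b o c i y * b o c i y) (Finset.mem_univ x)
    have e2 := Finset.add_sum_erase Finset.univ (fun y => r y * r y) (Finset.mem_univ x)
    have e3 : ∑ y ∈ Finset.univ.erase x, r y * r y =
        ∑ y ∈ Finset.univ.erase x, b o c i y * b o c i y :=
      Finset.sum_congr rfl fun y hy => by simp [r, Finset.ne_of_mem_erase hy]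
    have hxx : b o c i x * b o c i x = 1 := by
      rcases s x with e | e | e <;> simp_all
    simp only [r, if_true, mul_zero, zero_add] at e1 e2 e3 ⊢
    omega
  obtain ⟨p, q, hpq, hp, hq, h0⟩ := norm_two_split n2
  have hpx : p ≠ x := fun e => by simp [r, e] at hp
  have hqx : q ≠ x := fun e => by simp [r, e] at hq
  exact ⟨p, q, hpq, hpx.symm, hqx.symm, by simpa [r, hpx] using hp, by simpa [r, hqx] using hq,
    fun w hwx hwp hwq => by simpa [r, hwx] using h0 w hwp hwq⟩

theorem rest_one {i : Fin 4} (hi : i ≠ 0) {x y : ι} (hxy : x ≠ y) (hx : b o c i x ≠ 0)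
    (hy : b o c i y ≠ 0) :
    ∃ p, x ≠ p ∧ y ≠ p ∧ (b o c i p = 1 ∨ b o c i p = -1) ∧
      ∀ w, w ≠ x → w ≠ y → w ≠ p → b o c i w = 0 := by
  obtain ⟨p, q, hpq, hxp, hxq, hp, hq, h0⟩ := H.rest_two hi hx
  by_cases hyp : y = p
  · subst hyp
    exact ⟨q, hxq, hpq, hq, h0⟩
  · by_cases hyq : y = q
    · subst hyq
      exact ⟨p, hxp, hpq.symm, hp, fun w a b' c' => h0 w a c' b'⟩
    · exact absurd (h0 y hxy.symm hyp hyq) hy

theorem ne_o {i : Fin 4} {x : ι} (hx : b o c i x ≠ 0) : x ≠ o := by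
  have := H.ipos
  rintro rfl; exact hx b_self

/-- A point lying only in the vector `i`. -/
theorem value_single {i : Fin 4} (hi : i ≠ 0) {x : ι} (hx : b o c i x ≠ 0)
    (hz : ∀ j, j ≠ 0 → j ≠ i → b o c j x = 0) :
    v x = b o c i x * ![0, 3, 3, -5] i := by
  have ho := H.ne_o hx
  have h0 := H.zero_of_ne hi hx
  rw [H.hv, h0]
  fin_cases i
  · exact absurd rfl hi
  · have a := hz 2 (by decide) (by decide); have a' := hz 3 (by decide) (by decide)
    rw [b_ne ho] at a a'; simp [b_ne ho, a, a']; ring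
  · have a := hz 1 (by decide) (by decide); have a' := hz 3 (by decide) (by decide)
    rw [b_ne ho] at a a'; simp [b_ne ho, a, a']; ring
  · have a := hz 1 (by decide) (by decide); have a' := hz 2 (by decide) (by decide)
    rw [b_ne ho] at a a'; simp [b_ne ho, a, a']; ring

/-- The arithmetic data of one vector of the sunflower. -/
theorem sun_data {i : Fin 4} (hi : i ≠ 0) {x p q : ι} (hpq : p ≠ q) (hxp : x ≠ p) (hxq : x ≠ q)
    (hp : b o c i p = 1 ∨ b o c i p = -1) (hq : b o c i q = 1 ∨ b o c i q = -1)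
    (h0 : ∀ w, w ≠ x → w ≠ p → w ≠ q → b o c i w = 0) :
    b o c i x * d x + b o c i p * d p + b o c i q * d q = -1 ∧
    (I : ℚ) * (1 + (((v x * v x * b o c i x : ℤ) : ℚ) / d x + ((v p * v p * b o c i p : ℤ) : ℚ) / d p
      + ((v q * v q * b o c i q : ℤ) : ℚ) / d q)) = ![0, 1200, 1200, 720] i := by
  constructor
  · rw [← H.sum_three hxp hxq hpq (f := fun w => b o c i w * d w)
      (fun w a b' c' => by simp only [h0 w a b' c', zero_mul]), H.bdeg]
    fin_cases i <;> simp_all
  · rw [← H.sum_three hxp hxq hpq (f := fun w => ((v w * v w * b o c i w : ℤ) : ℚ) / d w)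
      (fun w a b' c' => by simp [h0 w a b' c']), H.ordb i hi]

end Cfg

theorem order_int {I a bb cc : ℤ} {ka kb kc r : ℤ} (ha : a ≠ 0) (hb : bb ≠ 0) (hc : cc ≠ 0)
    (h : (I : ℚ) * (1 + ((ka : ℚ) / (a : ℚ) + (kb : ℚ) / (bb : ℚ) + (kc : ℚ) / (cc : ℚ))) = r) :
    I * (a * bb * cc + ka * bb * cc + a * kb * cc + a * bb * kc) = r * a * bb * cc := by
  have ha' : (a : ℚ) ≠ 0 := Int.cast_ne_zero.2 ha
  have hb' : (bb : ℚ) ≠ 0 := Int.cast_ne_zero.2 hb
  have hc' : (cc : ℚ) ≠ 0 := Int.cast_ne_zero.2 hc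
  field_simp at h
  have : ((I * (a * bb * cc + ka * bb * cc + a * kb * cc + a * bb * kc) : ℤ) : ℚ) =
      ((r * a * bb * cc : ℤ) : ℚ) := by
    push_cast
    linear_combination h
  exact_mod_cast this

namespace Cfg

variable {o : ι} {d v : ι → ℤ} {c : Fin 4 → ι → ℤ} {I : ℤ} (H : Cfg o d v c I)
include H

set_option maxHeartbeats 1500000 in
theorem sunflower {x : ι} (h1 : b o c 1 x ≠ 0) (h2 : b o c 2 x = b o c 1 x)
    (h3 : b o c 3 x = b o c 1 x)
    (u12 : ∀ y, y ≠ x → b o c 1 y = 0 ∨ b o c 2 y = 0)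
    (u13 : ∀ y, y ≠ x → b o c 1 y = 0 ∨ b o c 3 y = 0)
    (u23 : ∀ y, y ≠ x → b o c 2 y = 0 ∨ b o c 3 y = 0) : Outcome o d v c I := by
  have hxo := H.ne_o h1
  have n3 : ∑ y, b o c 1 y * b o c 1 y = 3 := by rw [H.bgram]; rfl
  have hx1 : b o c 1 x = 1 ∨ b o c 1 x = -1 :=
    (BSWall.coeff_small (by omega) x).resolve_left h1
  have hz : c 0 x = 0 := H.zero_of_ne (by decide) h1
  have hvx : v x = b o c 1 x * 1 := by
    rw [H.hv, hz]
    have a1 : c 1 x = b o c 1 x := (b_ne hxo).symm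
    have a2 : c 2 x = b o c 1 x := by rw [← h2, b_ne hxo]
    have a3 : c 3 x = b o c 1 x := by rw [← h3, b_ne hxo]
    rw [a1, a2, a3]; ring
  obtain ⟨p1, q1, hpq1, hxp1, hxq1, hp1, hq1, z1⟩ := H.rest_two (i := 1) (by decide) h1
  obtain ⟨p2, q2, hpq2, hxp2, hxq2, hp2, hq2, z2⟩ := H.rest_two (i := 2) (by decide) (h2 ▸ h1)
  obtain ⟨p3, q3, hpq3, hxp3, hxq3, hp3, hq3, z3⟩ := H.rest_two (i := 3) (by decide) (h3 ▸ h1)
  have only1 : ∀ y, y ≠ x → b o c 1 y ≠ 0 → ∀ j, j ≠ 0 → j ≠ 1 → b o c j y = 0 := by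
    intro y hy hne j hj hj'
    fin_cases j
    · exact absurd rfl hj
    · exact absurd rfl hj'
    · exact (u12 y hy).resolve_left hne
    · exact (u13 y hy).resolve_left hne
  have only2 : ∀ y, y ≠ x → b o c 2 y ≠ 0 → ∀ j, j ≠ 0 → j ≠ 2 → b o c j y = 0 := by
    intro y hy hne j hj hj'
    fin_cases j
    · exact absurd rfl hj
    · exact (u12 y hy).resolve_right hne
    · exact absurd rfl hj'
    · exact (u23 y hy).resolve_left hne
  have only3 : ∀ y, y ≠ x → b o c 3 y ≠ 0 → ∀ j, j ≠ 0 → j ≠ 3 → b o c j y = 0 := by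
    intro y hy hne j hj hj'
    fin_cases j
    · exact absurd rfl hj
    · exact (u13 y hy).resolve_right hne
    · exact (u23 y hy).resolve_right hne
    · exact absurd rfl hj'
  have ne0 : ∀ {k : ℤ}, (k = 1 ∨ k = -1) → k ≠ 0 := fun h => by omega
  have vp1 : v p1 = b o c 1 p1 * 3 :=
    H.value_single (i := 1) (by decide) (ne0 hp1) (only1 p1 hxp1.symm (ne0 hp1))
  have vq1 : v q1 = b o c 1 q1 * 3 :=
    H.value_single (i := 1) (by decide) (ne0 hq1) (only1 q1 hxq1.symm (ne0 hq1))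
  have vp2 : v p2 = b o c 2 p2 * 3 :=
    H.value_single (i := 2) (by decide) (ne0 hp2) (only2 p2 hxp2.symm (ne0 hp2))
  have vq2 : v q2 = b o c 2 q2 * 3 :=
    H.value_single (i := 2) (by decide) (ne0 hq2) (only2 q2 hxq2.symm (ne0 hq2))
  have vp3 : v p3 = b o c 3 p3 * -5 :=
    H.value_single (i := 3) (by decide) (ne0 hp3) (only3 p3 hxp3.symm (ne0 hp3))
  have vq3 : v q3 = b o c 3 q3 * -5 :=
    H.value_single (i := 3) (by decide) (ne0 hq3) (only3 q3 hxq3.symm (ne0 hq3))
  obtain ⟨sx8, sxr, sxt⟩ := H.signed hx1 hvx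
  obtain ⟨sp18, sp1r, sp1t⟩ := H.signed hp1 vp1
  obtain ⟨sq18, sq1r, sq1t⟩ := H.signed hq1 vq1
  obtain ⟨sp28, sp2r, sp2t⟩ := H.signed hp2 vp2
  obtain ⟨sq28, sq2r, sq2t⟩ := H.signed hq2 vq2
  obtain ⟨sp38, sp3r, sp3t⟩ := H.signed hp3 vp3
  obtain ⟨sq38, sq3r, sq3t⟩ := H.signed hq3 vq3
  obtain ⟨s1, o1⟩ := H.sun_data (i := 1) (by decide) hpq1 hxp1 hxq1 hp1 hq1 z1
  obtain ⟨s2, o2⟩ := H.sun_data (i := 2) (by decide) hpq2 hxp2 hxq2 hp2 hq2 z2
  obtain ⟨s3, o3⟩ := H.sun_data (i := 3) (by decide) hpq3 hxp3 hxq3 hp3 hq3 z3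
  rw [sxt, sp1t, sq1t] at o1
  rw [h2, sxt, sp2t, sq2t] at o2
  rw [h3, sxt, sp3t, sq3t] at o3
  rw [h2] at s2
  rw [h3] at s3
  set E := b o c 1 x * d x with hEdef
  set D := b o c 1 p1 * d p1 with hDdef
  set D2 := b o c 1 q1 * d q1 with hD2def
  set D' := b o c 2 p2 * d p2 with hD'def
  set D2' := b o c 2 q2 * d q2 with hD2'def
  set C := b o c 3 p3 * d p3 with hCdef
  set C2 := b o c 3 q3 * d q3 with hC2def
  have eD : I * (E * D * D2 + 1 * D * D2 + E * 9 * D2 + E * D * 9) = 1200 * E * D * D2 :=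
    order_int (ka := 1) (kb := 9) (kc := 9) (r := 1200) (by omega) (by omega) (by omega)
      (by simpa using o1)
  have eD' : I * (E * D' * D2' + 1 * D' * D2' + E * 9 * D2' + E * D' * 9) = 1200 * E * D' * D2' :=
    order_int (ka := 1) (kb := 9) (kc := 9) (r := 1200) (by omega) (by omega) (by omega)
      (by simpa using o2)
  have eC : I * (E * C * C2 + 1 * C * C2 + E * 25 * C2 + E * C * 25) = 720 * E * C * C2 :=
    order_int (ka := 1) (kb := 25) (kc := 25) (r := 720) (by omega) (by omega) (by omega)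
      (by simpa using o3)
  -- the two pairs have the same product
  have hP : D * D2 = D' * D2' := by
    have hne : I * E * (1 + E) ≠ 0 := by
      refine mul_ne_zero (mul_ne_zero ?_ ?_) ?_ <;> [exact H.ipos.ne'; omega; omega]
    have a1 : (I * (E + 1) - 1200 * E) * (D * D2) = 9 * (I * E * (1 + E)) := by
      linear_combination eD - 9 * I * E * s1
    have a2 : (I * (E + 1) - 1200 * E) * (D' * D2') = 9 * (I * E * (1 + E)) := by
      linear_combination eD' - 9 * I * E * s2
    refine mul_left_cancel₀ (fun e => ?_) (a1.trans a2.symm)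
    rw [e, zero_mul] at a1
    omega
  have hsqeq : D * D + D2 * D2 = D' * D' + D2' * D2' := by
    linear_combination (D + D2 + D' + D2') * (s1 - s2) - 2 * hP
  -- squares
  have hw := H.sq_bound (fun y => b o c 1 y * b o c 1 y + b o c 2 y * b o c 2 y +
      b o c 3 y * b o c 3 y - 2 * (if y = x then 1 else 0)) (fun y => ?_)
    (by simp [b_self, hxo.symm])
  swap
  · by_cases hy : y = x
    · subst hy
      rw [h2, h3]
      rcases hx1 with e | e <;> simp [e]
    · have q1 := sq_le_one (BSWall.coeff_small (c := b o c 1) (le_of_eq n3) y)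
      have q2 := sq_le_one
        (BSWall.coeff_small (c := b o c 2) (le_of_eq ((H.bgram 2 2).trans rfl)) y)
      have q3 := sq_le_one
        (BSWall.coeff_small (c := b o c 3) (le_of_eq ((H.bgram 3 3).trans rfl)) y)
      simp only [if_neg hy]
      rcases u12 y hy with e | e <;> rcases u13 y hy with e' | e' <;>
        rcases u23 y hy with e'' | e'' <;>
        simp only [e, e', e'', mul_zero, zero_add, add_zero, sub_zero] <;> linarith
  have sqsum : ∀ {i : Fin 4} {p q : ι}, p ≠ q → x ≠ p → x ≠ q →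
      (∀ w, w ≠ x → w ≠ p → w ≠ q → b o c i w = 0) →
      ∑ y, b o c i y * b o c i y * (d y * d y) = b o c i x * d x * (b o c i x * d x) +
        b o c i p * d p * (b o c i p * d p) + b o c i q * d q * (b o c i q * d q) := by
    intro i p q hpq hxp hxq hz'
    rw [H.sum_three hxp hxq hpq (f := fun y => b o c i y * b o c i y * (d y * d y))
      (fun w a b' c' => by simp [hz' w a b' c'])]
    ring
  have hsq : 2 * D * D + 2 * D2 * D2 + E * E + C * C + C2 * C2 < 120 * I := by
    simp only [sub_mul, add_mul, Finset.sum_sub_distrib, Finset.sum_add_distrib,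
      mul_assoc (2 : ℤ), ite_mul, one_mul, zero_mul, ← Finset.mul_sum, Finset.sum_ite_eq',
      Finset.mem_univ, if_true, sqsum hpq1 hxp1 hxq1 z1, sqsum hpq2 hxp2 hxq2 z2,
      sqsum hpq3 hxp3 hxq3 z3, h2, h3, ← hEdef, ← hDdef, ← hD2def, ← hD'def, ← hD2'def, ← hCdef,
      ← hC2def] at hw
    have hdd : d x * d x = E * E := by
      rcases hx1 with e | e <;> rw [hEdef, e] <;> ring
    linarith
  have main : ∀ {D D2 C C2 : ℤ}, D % 8 = 3 → (0 < D ∨ D ≤ -21) → D2 % 8 = 3 → (0 < D2 ∨ D2 ≤ -21) →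
      C % 8 = 3 → (35 ≤ C ∨ C ≤ -5) → (35 ≤ C2 ∨ C2 ≤ -5) → D2 = -1 - E - D → C2 = -1 - E - C →
      D ≤ D2 → C ≤ C2 →
      I * (E * D * D2 + D * D2 + 9 * E * (D + D2)) = 1200 * E * D * D2 →
      I * (E * C * C2 + C * C2 + 25 * E * (C + C2)) = 720 * E * C * C2 →
      2 * D * D + 2 * D2 * D2 + E * E + C * C + C2 * C2 < 120 * I →
      I = 1463 ∨ (I = 1575 ∧ E = -15 ∧ C = -21 ∧ C2 = 35) :=
    fun a b' c' d' e' f g a2 b2 c2 d2 e2 f2 g2 =>
      sun_aux H.ipos H.iodd (by omega) (by omega) a b' c' d' e' f g a2 b2 c2 d2 e2 f2 g2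
  have key : I = 1463 ∨ (I = 1575 ∧ E = -15 ∧ ((C = -21 ∧ C2 = 35) ∨ (C2 = -21 ∧ C = 35))) := by
    rcases le_total D D2 with hD | hD <;> rcases le_total C C2 with hC | hC
    · rcases main (D := D) (D2 := D2) (C := C) (C2 := C2) (by omega) (by omega) (by omega)
        (by omega) (by omega) (by omega) (by omega) (by omega) (by omega) hD hC (by linarith)
        (by linarith) hsq with h | ⟨a, b', c', d'⟩
      · exact Or.inl h
      · exact Or.inr ⟨a, b', Or.inl ⟨c', d'⟩⟩
    · rcases main (D := D) (D2 := D2) (C := C2) (C2 := C) (by omega) (by omega) (by omega)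
        (by omega) (by omega) (by omega) (by omega) (by omega) (by omega) hD hC (by linarith)
        (by linarith) (by linarith) with h | ⟨a, b', c', d'⟩
      · exact Or.inl h
      · exact Or.inr ⟨a, b', Or.inr ⟨c', d'⟩⟩
    · rcases main (D := D2) (D2 := D) (C := C) (C2 := C2) (by omega) (by omega) (by omega)
        (by omega) (by omega) (by omega) (by omega) (by omega) (by omega) hD hC (by linarith)
        (by linarith) (by linarith) with h | ⟨a, b', c', d'⟩
      · exact Or.inl h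
      · exact Or.inr ⟨a, b', Or.inl ⟨c', d'⟩⟩
    · rcases main (D := D2) (D2 := D) (C := C2) (C2 := C) (by omega) (by omega) (by omega)
        (by omega) (by omega) (by omega) (by omega) (by omega) (by omega) hD hC (by linarith)
        (by linarith) (by linarith) with h | ⟨a, b', c', d'⟩
      · exact Or.inl h
      · exact Or.inr ⟨a, b', Or.inr ⟨c', d'⟩⟩
  rcases key with h | ⟨-, hE, hCC⟩
  · exact Or.inl h
  · right
    have hp3o := H.ne_o (ne0 hp3)
    have hq3o := H.ne_o (ne0 hq3)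
    have z3' : ∀ y, y ≠ o → y ≠ x → y ≠ p3 → y ≠ q3 → c 3 y = 0 := fun y ho a b' c' => by
      rw [← b_ne (c := c) ho]; exact z3 y a b' c'
    have dx := H.dpos x
    have dp := H.dpos p3
    have dq := H.dpos q3
    have cx : c 3 x = b o c 1 x := by rw [← h3, b_ne hxo]
    have cp : c 3 p3 = b o c 3 p3 := (b_ne hp3o).symm
    have cq : c 3 q3 = b o c 3 q3 := (b_ne hq3o).symm
    have zp := H.zero_of_ne (i := 3) (by decide) (ne0 hp3)
    have zq := H.zero_of_ne (i := 3) (by decide) (ne0 hq3)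
    have fx : d x = 15 ∧ b o c 1 x = -1 := by
      rcases hx1 with e | e <;> rw [hEdef, e] at hE <;> omega
    rcases hCC with ⟨hC, hC2⟩ | ⟨hC2, hC⟩
    · refine ⟨x, p3, q3, ?_, ?_, ?_, ⟨hxo, hp3o, hq3o, hxp3, hxq3, hpq3⟩, z3'⟩
      · omega
      · rcases hp3 with e | e <;> rw [hCdef, e] at hC <;> omega
      · rcases hq3 with e | e <;> rw [hC2def, e] at hC2 <;> omega
    · refine ⟨x, q3, p3, ?_, ?_, ?_, ⟨hxo, hq3o, hp3o, hxq3, hxp3, hpq3.symm⟩,
        fun y ho a b' c' => z3' y ho a c' b'⟩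
      · omega
      · rcases hq3 with e | e <;> rw [hC2def, e] at hC2 <;> omega
      · rcases hp3 with e | e <;> rw [hCdef, e] at hC <;> omega

theorem triangle {x y z : ι} (hxy : x ≠ y) (hxz : x ≠ z) (hyz : y ≠ z)
    (x1 : b o c 1 x ≠ 0) (x2 : b o c 2 x = b o c 1 x)
    (y1 : b o c 1 y ≠ 0) (y3 : b o c 3 y = b o c 1 y)
    (w2 : b o c 2 z ≠ 0) (w3 : b o c 3 z = b o c 2 z)
    (u12 : ∀ w, w ≠ x → b o c 1 w = 0 ∨ b o c 2 w = 0)
    (u13 : ∀ w, w ≠ y → b o c 1 w = 0 ∨ b o c 3 w = 0)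
    (u23 : ∀ w, w ≠ z → b o c 2 w = 0 ∨ b o c 3 w = 0) : False := by
  have hxo := H.ne_o x1
  have hyo := H.ne_o y1
  have hzo := H.ne_o w2
  have x3 : b o c 3 x = 0 := (u13 x hxy).resolve_left x1
  have y2 : b o c 2 y = 0 := (u12 y hxy.symm).resolve_left y1
  have z1 : b o c 1 z = 0 := (u12 z hxz.symm).resolve_right w2
  obtain ⟨p, hxp, hyp, hp, zz1⟩ := H.rest_one (i := 1) (by decide) hxy x1 y1
  obtain ⟨q, hxq, hzq, hq, zz2⟩ := H.rest_one (i := 2) (by decide) hxz (x2 ▸ x1) w2
  obtain ⟨r, hyr, hzr, hr, zz3⟩ := H.rest_one (i := 3) (by decide) hyz (y3 ▸ y1) (w3 ▸ w2)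
  have ne0 : ∀ {k : ℤ}, (k = 1 ∨ k = -1) → k ≠ 0 := fun h => by omega
  have vp : v p = b o c 1 p * 3 := H.value_single (i := 1) (by decide) (ne0 hp) (by
    intro j hj hj'
    fin_cases j
    · exact absurd rfl hj
    · exact absurd rfl hj'
    · exact (u12 p hxp.symm).resolve_left (ne0 hp)
    · exact (u13 p hyp.symm).resolve_left (ne0 hp))
  have vq : v q = b o c 2 q * 3 := H.value_single (i := 2) (by decide) (ne0 hq) (by
    intro j hj hj'
    fin_cases j
    · exact absurd rfl hj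
    · exact (u12 q hxq.symm).resolve_right (ne0 hq)
    · exact absurd rfl hj'
    · exact (u23 q hzq.symm).resolve_left (ne0 hq))
  have vr : v r = b o c 3 r * -5 := H.value_single (i := 3) (by decide) (ne0 hr) (by
    intro j hj hj'
    fin_cases j
    · exact absurd rfl hj
    · exact (u13 r hyr.symm).resolve_right (ne0 hr)
    · exact (u23 r hzr.symm).resolve_right (ne0 hr)
    · exact absurd rfl hj')
  have small : ∀ (i : Fin 4) (w : ι), b o c i w = 0 ∨ b o c i w = 1 ∨ b o c i w = -1 := by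
    intro i w
    refine BSWall.coeff_small ?_ w
    rw [H.bgram]; fin_cases i <;> simp
  have sx := (small 1 x).resolve_left x1
  have sy := (small 1 y).resolve_left y1
  have sz := (small 2 z).resolve_left w2
  have vx : v x = b o c 1 x * 6 := by
    rw [H.hv, H.zero_of_ne (i := 1) (by decide) x1]
    rw [b_ne hxo] at x2 x3 ⊢
    rw [b_ne (i := 1) hxo] at x2
    rw [x2, x3]; ring
  have vy : v y = b o c 1 y * -2 := by
    rw [H.hv, H.zero_of_ne (i := 1) (by decide) y1]
    rw [b_ne hyo] at y3 y2 ⊢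
    rw [b_ne (i := 1) hyo] at y3
    rw [y3, y2]; ring
  have vz : v z = b o c 2 z * -2 := by
    rw [H.hv, H.zero_of_ne (i := 2) (by decide) w2]
    rw [b_ne hzo] at w3 z1 ⊢
    rw [b_ne (i := 2) hzo] at w3
    rw [w3, z1]; ring
  obtain ⟨sx8, sxr, sxt⟩ := H.signed sx vx
  obtain ⟨sy8, syr, syt⟩ := H.signed sy vy
  obtain ⟨sz8, szr, szt⟩ := H.signed sz vz
  obtain ⟨sp8, spr, spt⟩ := H.signed hp vp
  obtain ⟨sq8, sqr, sqt⟩ := H.signed hq vq
  obtain ⟨sr8, srr, srt⟩ := H.signed hr vr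
  have t1 := H.sun_data (i := 1) (by decide) hyp hxy hxp sy hp zz1
  have t2 := H.sun_data (i := 2) (by decide) hzq hxz hxq sz hq zz2
  have t3 := H.sun_data (i := 3) (by decide) hzr hyz hyr (by rw [w3]; exact sz) hr zz3
  obtain ⟨s1, o1⟩ := t1
  obtain ⟨s2, o2⟩ := t2
  obtain ⟨s3, o3⟩ := t3
  rw [sxt, syt, spt] at o1
  rw [x2, sxt, szt, sqt] at o2
  rw [y3, w3, syt, szt, srt] at o3
  rw [x2] at s2
  rw [y3, w3] at s3
  set Y := b o c 1 x * d x with hYdef
  set F := b o c 1 y * d y with hFdef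
  set F' := b o c 2 z * d z with hF'def
  set B := b o c 1 p * d p with hBdef
  set B' := b o c 2 q * d q with hB'def
  set C := b o c 3 r * d r with hCdef
  have e1 : I * (Y * F * B + 36 * F * B + Y * 4 * B + Y * F * 9) = 1200 * Y * F * B :=
    order_int (ka := 36) (kb := 4) (kc := 9) (r := 1200) (by omega) (by omega) (by omega)
      (by simpa using o1)
  have e2 : I * (Y * F' * B' + 36 * F' * B' + Y * 4 * B' + Y * F' * 9) = 1200 * Y * F' * B' :=
    order_int (ka := 36) (kb := 4) (kc := 9) (r := 1200) (by omega) (by omega) (by omega)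
      (by simpa using o2)
  have e3 : I * (F * F' * C + 4 * F' * C + F * 4 * C + F * F' * 25) = 720 * F * F' * C :=
    order_int (ka := 4) (kb := 4) (kc := 25) (r := 720) (by omega) (by omega) (by omega)
      (by simpa using o3)
  have hw := H.sq_bound (fun w => b o c 1 w * b o c 1 w + b o c 2 w * b o c 2 w -
      (if w = x then 1 else 0)) (fun w => ?_) (by simp [b_self, hxo.symm])
  swap
  · by_cases hw : w = x
    · subst hw
      rw [x2]
      rcases sx with e | e <;> simp [e]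
    · simp only [if_neg hw]
      have q1 := sq_le_one (small 1 w)
      have q2 := sq_le_one (small 2 w)
      rcases u12 w hw with e | e <;>
        simp only [e, mul_zero, zero_add, add_zero, sub_zero] <;> linarith
  have hsq : B * B + F * F + B' * B' + F' * F' + Y * Y < 120 * I := by
    simp only [sub_mul, add_mul, Finset.sum_sub_distrib, Finset.sum_add_distrib,
      ite_mul, one_mul, zero_mul, Finset.sum_ite_eq', Finset.mem_univ, if_true] at hw
    rw [H.sum_three hxy hxp hyp (f := fun w => b o c 1 w * b o c 1 w * (d w * d w))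
      (fun w a b' c' => by simp [zz1 w a b' c']),
      H.sum_three hxz hxq hzq (f := fun w => b o c 2 w * b o c 2 w * (d w * d w))
      (fun w a b' c' => by simp [zz2 w a b' c']), x2] at hw
    have hdd : d x * d x = Y * Y := by
      rcases sx with e | e <;> rw [hYdef, e] <;> ring
    rw [hBdef, hFdef, hB'def, hF'def, hYdef] at *
    linarith
  exact tri_false (I := I) (B := B) (F := F) (b := B') (f := F') (Y := Y) (C := C) H.ipos H.iodd
    (by omega) (by omega) (by omega) (by omega) (by omega) (by omega) (by omega) (by omega)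
    (by omega) (by omega) (by omega) (by omega) (by omega) (by linarith) (by linarith)
    (by linarith) hsq

theorem outcome : Outcome o d v c I := by
  obtain ⟨x, -, x1, x2, u12⟩ := H.common (i := 1) (j := 2) (by decide) (by decide) (by decide)
  obtain ⟨y, -, y1, y3, u13⟩ := H.common (i := 1) (j := 3) (by decide) (by decide) (by decide)
  obtain ⟨z, -, z2, z3, u23⟩ := H.common (i := 2) (j := 3) (by decide) (by decide) (by decide)
  by_cases hxy : x = y
  · subst hxy
    have hzx : z = x := by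
      by_contra hne
      rcases u23 x (Ne.symm hne) with e | e
      · exact x1 (x2 ▸ e)
      · exact y1 (y3 ▸ e)
    subst hzx
    exact H.sunflower x1 x2 y3 u12 u13 u23
  · exfalso
    have hxz : x ≠ z := fun e => by
      subst e
      rcases u13 x hxy with e | e
      · exact x1 e
      · exact z2 (z3 ▸ e)
    have hyz : y ≠ z := fun e => by
      subst e
      rcases u12 y (Ne.symm hxy) with e | e
      · exact y1 e
      · exact z2 e
    exact H.triangle hxy hxz hyz x1 x2 y1 y3 z2 z3 u12 u13 u23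

end Cfg

end Cfsg.Agent.J1Order
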