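import Mathlib.GroupTheory.SpecificGroups.Alternating
import Mathlib.RingTheory.RootsOfUnity.Complex
import Cfsg.Agent.Char.Linear
import Cfsg.Agent.Char.PermChar
import Cfsg.Agent.Char.Virtual
import Cfsg.Agent.Char.Kernel
import Cfsg.Agent.CharInd.GenChar

/-!
# The group `Z₂ × A₅`: class data and four generalized characters of `A₅`
-/

set_option autoImplicit false

open scoped ComplexConjugate
open Cfsg

namespace Cfsg.Agent.J1Order

/-- The alternating group of degree 5. -/
abbrev A5 := alternatingGroup (Fin 5)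

/-- The prospective centralizer of an involution. -/
abbrev D := Multiplicative (ZMod 2) × A5

open Equiv in
/-- A 3-cycle. -/
def x0 : A5 := ⟨swap 0 1 * swap 1 2, Equiv.Perm.mem_alternatingGroup.2 (by decide)⟩

open Equiv in
/-- A 5-cycle. -/
def y0 : A5 :=
  ⟨swap 0 1 * swap 1 2 * swap 2 3 * swap 3 4, Equiv.Perm.mem_alternatingGroup.2 (by decide)⟩

/-- The nontrivial element of the factor of order two. -/
def ε : Multiplicative (ZMod 2) := Multiplicative.ofAdd 1

/-- The five classes of `A₅`. -/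
def cls (g : A5) : Fin 5 :=
  if g = 1 then 0 else if g * g = 1 then 1 else if g * g * g = 1 then 2
  else if (∃ h : A5, h * y0 * h⁻¹ = g) then 3 else 4

/-- The class sizes. -/
def csize : Fin 5 → ℕ := ![1, 15, 20, 12, 12]

theorem card_cls : ∀ k, (Finset.univ.filter fun g : A5 => cls g = k).card = csize k := by
  decide +kernel

theorem cls_conj_x0 : ∀ g : A5, cls g = 2 → ∃ h : A5, h * x0 * h⁻¹ = g := by decide +kernel

theorem cls_x0 : cls x0 = 2 := by decide +kernel

theorem cls_one : cls 1 = 0 := by decide +kernel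

theorem eq_one_of_cls : ∀ g : A5, cls g = 0 → g = 1 := by decide +kernel

theorem pow15_eq : ∀ g : A5, cls g ≠ 1 → g ^ 15 = 1 := by decide +kernel

theorem sum_cls {M : Type*} [AddCommMonoid M] (w : Fin 5 → M) :
    ∑ g : A5, w (cls g) = ∑ k, csize k • w k := by
  rw [← Finset.sum_fiberwise Finset.univ cls fun g => w (cls g)]
  refine Finset.sum_congr rfl fun k _ => ?_
  rw [← card_cls k, ← Finset.sum_const]
  exact Finset.sum_congr rfl fun g hg => by rw [(Finset.mem_filter.1 hg).2]

/-- Number of fixed points on five points. -/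
theorem fix_five : ∀ g : A5,
    (Finset.univ.filter fun i : Fin 5 => (g : Equiv.Perm (Fin 5)) i = i).card =
      ![5, 1, 2, 0, 0] (cls g) := by decide +kernel

/-- Number of fixed unordered pairs, with repetition. -/
theorem fix_sym : ∀ g : A5,
    (Finset.univ.filter fun z : Sym2 (Fin 5) => z.map (g : Equiv.Perm (Fin 5)) = z).card =
      ![15, 3, 3, 0, 0] (cls g) := by decide +kernel

/-- Conjugates of `h` among the powers of `y0`. -/
theorem cnt_y0 : ∀ h : A5, ∀ i : Fin 5, i ≠ 0 →
    (Finset.univ.filter fun g : A5 => g⁻¹ * h * g = y0 ^ (i : ℕ)).card =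
      if (cls h = 3 ∧ (i = 1 ∨ i = 4)) ∨ (cls h = 4 ∧ (i = 2 ∨ i = 3)) then 5 else 0 := by
  decide +kernel

theorem y0_pow5 : y0 ^ 5 = 1 := by decide +kernel

theorem y0_inj : ∀ i j : ZMod 5, y0 ^ i.val = y0 ^ j.val → i = j := by decide +kernel

/-- The number of ways to write an element of `D` as a product of two involutions. -/
def cntD (z : D) : ℕ :=
  (Finset.univ.filter fun d : D => d * d = 1 ∧ d ≠ 1 ∧ d * z * (d * z) = 1 ∧ d * z ≠ 1).card

theorem cntD_eq : ∀ g : A5, cls g ≠ 1 → cntD (ε, g) = ![30, 0, 6, 10, 10] (cls g) := by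
  decide +kernel

/-- The cyclic homomorphism given by a root of unity. -/
noncomputable def cycHom (n : ℕ) [NeZero n] (z : ℂˣ) (hz : z ^ n = 1) :
    Multiplicative (ZMod n) →* ℂˣ where
  toFun k := z ^ (Multiplicative.toAdd k).val
  map_one' := by simp
  map_mul' a b := by
    rw [← pow_add, toAdd_mul, ZMod.val_add]
    conv_rhs => rw [← Nat.mod_add_div ((Multiplicative.toAdd a).val + (Multiplicative.toAdd b).val) n,
      pow_add, pow_mul, hz, one_pow, mul_one]

/-- The cyclic subgroup map. -/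
def iota5 : Multiplicative (ZMod 5) →* A5 where
  toFun k := y0 ^ (Multiplicative.toAdd k).val
  map_one' := by simp
  map_mul' := by decide +kernel

theorem iota5_inj : Function.Injective iota5 := fun a b h =>
  Multiplicative.toAdd.injective (y0_inj _ _ h)

noncomputable section

/-- A primitive fifth root of unity. -/
def z5 : ℂˣ := Units.mk0 (Complex.exp (2 * Real.pi * Complex.I / (5 : ℕ))) (Complex.exp_ne_zero _)

theorem z5_prim : IsPrimitiveRoot ((z5 : ℂˣ) : ℂ) 5 :=
  Complex.isPrimitiveRoot_exp 5 (by norm_num)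

theorem z5_pow : z5 ^ 5 = 1 := Units.ext (by simpa using z5_prim.pow_eq_one)

theorem z5_geom : (1 : ℂ) + (z5 : ℂ) + (z5 : ℂ) ^ 2 + (z5 : ℂ) ^ 3 + (z5 : ℂ) ^ 4 = 0 := by
  have := z5_prim.geom_sum_eq_zero (by norm_num : 1 < 5)
  simpa [Finset.sum_range_succ] using this

/-- `2 cos (2π/5)`. -/
def α : ℂ := (z5 : ℂ) + (z5 : ℂ) ^ 4

/-- `2 cos (4π/5)`. -/
def β : ℂ := (z5 : ℂ) ^ 2 + (z5 : ℂ) ^ 3

theorem α_add_β : α + β = -1 := by
  have := z5_geom
  simp only [α, β]; linear_combination this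

theorem α_sq : α * α = 1 - α := by
  have h5 : (z5 : ℂ) ^ 5 = 1 := z5_prim.pow_eq_one
  have := z5_geom
  simp only [α]
  linear_combination ((z5 : ℂ) ^ 3 + 2) * h5 + this

theorem conj_z5 : conj (z5 : ℂ) = (z5 : ℂ) ^ 4 := by
  have h5 : (z5 : ℂ) ^ 5 = 1 := z5_prim.pow_eq_one
  have h1 : ‖(z5 : ℂ)‖ = 1 := Complex.norm_eq_one_of_pow_eq_one h5 (by norm_num)
  have h2 : (z5 : ℂ) * conj (z5 : ℂ) = 1 := by rw [Complex.mul_conj', h1]; simp
  linear_combination (z5 : ℂ) ^ 4 * h2 - conj (z5 : ℂ) * h5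

theorem conj_α : conj α = α := by
  have h5 : (z5 : ℂ) ^ 5 = 1 := z5_prim.pow_eq_one
  simp only [α, map_add, map_pow, conj_z5]
  linear_combination ((z5 : ℂ) ^ 11 + (z5 : ℂ) ^ 6 + (z5 : ℂ)) * h5

theorem conj_β : conj β = β := by
  have h := conj_α
  have e : β = -1 - α := by linear_combination α_add_β
  rw [e, map_sub, map_neg, map_one, h]

/-- The four rows `4`, `1 + 3`, `1 + 3'`, `1 - 5`. -/
def row : Fin 4 → Fin 5 → ℂ :=
  ![![4, 0, 1, -1, -1], ![4, 0, 1, 1 - α, 1 - β], ![4, 0, 1, 1 - β, 1 - α], ![-4, 0, 2, 1, 1]]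

/-- The four class functions on `A₅`. -/
def phi (i : Fin 4) (g : A5) : ℂ := row i (cls g)

theorem conj_row : ∀ i k, conj (row i k) = row i k := by
  intro i k
  fin_cases i <;> fin_cases k <;> simp [row, conj_α, conj_β, map_ofNat]

/-- The linear character of the cyclic subgroup. -/
def lam5 (j : ℕ) : iota5.range →* ℂˣ :=
  (cycHom 5 (z5 ^ j) (by rw [← pow_mul, mul_comm, pow_mul, z5_pow, one_pow])).comp
    (MonoidHom.ofInjective iota5_inj).symm.toMonoidHom

theorem ind_lam5 (j : ℕ) (h : A5) :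
    indFun iota5.range (fun k => ((lam5 j k : ℂˣ) : ℂ) - 1) h =
      if cls h = 3 then (z5 : ℂ) ^ j + (z5 : ℂ) ^ (4 * j) - 2
      else if cls h = 4 then (z5 : ℂ) ^ (2 * j) + (z5 : ℂ) ^ (3 * j) - 2 else 0 := by
  classical
  set θ : iota5.range → ℂ := fun k => ((lam5 j k : ℂˣ) : ℂ) - 1
  have hext : ∀ g : A5, extendByZero iota5.range θ g =
      ∑ i : Fin 5, if g = y0 ^ (i : ℕ) then ((z5 : ℂ) ^ (j * (i : ℕ)) - 1) else 0 := by
    intro g
    by_cases hg : g ∈ iota5.range
    · rw [CharInd.extendByZero_mem _ _ hg]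
      obtain ⟨k, rfl⟩ := hg
      have e : (MonoidHom.ofInjective iota5_inj).symm ⟨iota5 k, ⟨k, rfl⟩⟩ = k :=
        (MulEquiv.symm_apply_eq _).2 (Subtype.ext rfl)
      rw [Finset.sum_eq_single (⟨(Multiplicative.toAdd k).val, ZMod.val_lt _⟩ : Fin 5)]
      · refine Eq.trans ?_ (if_pos rfl).symm
        simp only [θ, lam5, MonoidHom.coe_comp, MulEquiv.coe_toMonoidHom, Function.comp_apply]
        rw [e]
        simp [cycHom, pow_mul]
      · intro i _ hi
        rw [if_neg]
        intro e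
        apply hi
        have := y0_inj (Multiplicative.toAdd k) ((i : ℕ) : ZMod 5) (by
          rw [ZMod.val_natCast, Nat.mod_eq_of_lt i.2]; exact e)
        ext
        simp only [this, ZMod.val_natCast, Nat.mod_eq_of_lt i.2]
      · simp
    · rw [CharInd.extendByZero_notMem _ _ hg, Finset.sum_eq_zero]
      intro i _
      rw [if_neg]
      rintro rfl
      exact hg (pow_mem (MonoidHom.mem_range.2 ⟨Multiplicative.ofAdd 1, show y0 ^ (1 : ZMod 5).val = y0 by
        exact pow_one y0⟩) _)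
  rw [CharInd.indFun_apply]
  simp only [hext]
  rw [Finset.sum_comm]
  simp only [← Finset.sum_filter, Finset.sum_const, nsmul_eq_mul]
  have hc : (Nat.card iota5.range : ℂ) = 5 := by
    rw [Nat.card_congr (MonoidHom.ofInjective iota5_inj).symm.toEquiv]
    simp
  rw [hc, Fin.sum_univ_five, cnt_y0 h 1 (by decide), cnt_y0 h 2 (by decide),
    cnt_y0 h 3 (by decide), cnt_y0 h 4 (by decide)]
  rcases (by decide : ∀ k : Fin 5, k = 0 ∨ k = 1 ∨ k = 2 ∨ k = 3 ∨ k = 4) (cls h) with
    e | e | e | e | e <;> simp [e] <;> ring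

/-- `Sym2 (Fin 5)` with the permutation action. -/
def P2 := Sym2 (Fin 5)

instance : MulAction A5 P2 where
  smul g z := Sym2.map (g : Equiv.Perm (Fin 5)) z
  one_smul z := congrFun Sym2.map_id z
  mul_smul g h := fun (z : Sym2 (Fin 5)) => by
    show Sym2.map _ z = Sym2.map _ (Sym2.map _ z)
    rw [Sym2.map_map]; rfl

theorem fix_five_genChar : IsGeneralizedCharacter A5 fun g => (![5, 1, 2, 0, 0] (cls g) : ℕ) := by
  have h := Char.isCharacter_permChar (G := A5) (X := Fin 5)
  convert Char.isGeneralizedCharacter_of_isCharacter h using 1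
  funext g
  rw [← fix_five g, Char.permChar, Nat.card_eq_fintype_card, Fintype.card_subtype]
  rfl

theorem fix_sym_genChar : IsGeneralizedCharacter A5 fun g => (![15, 3, 3, 0, 0] (cls g) : ℕ) := by
  have : Finite P2 := inferInstanceAs (Finite (Sym2 (Fin 5)))
  have h := Char.isCharacter_permChar (G := A5) (X := P2)
  convert Char.isGeneralizedCharacter_of_isCharacter h using 1
  funext g
  rw [← fix_sym g, Char.permChar]
  congr 1
  rw [← Fintype.card_subtype, ← Nat.card_eq_fintype_card]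
  rfl

theorem ind_lam5_genChar (j : ℕ) :
    IsGeneralizedCharacter A5 (indFun iota5.range (fun k => ((lam5 j k : ℂˣ) : ℂ) - 1)) :=
  CharInd.genChar_indFun _ (CharInd.genChar_sub
    (Char.isGeneralizedCharacter_of_irr (Char.isIrrCharacter_monoidHom (lam5 j)))
    (Char.isGeneralizedCharacter_of_irr Char.isIrrCharacter_const_one))

theorem phi_genChar (i : Fin 4) : IsGeneralizedCharacter A5 (phi i) := by
  have h1 : IsGeneralizedCharacter A5 (fun _ => (1 : ℂ)) :=
    Char.isGeneralizedCharacter_of_irr Char.isIrrCharacter_const_one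
  have ha : IsGeneralizedCharacter A5 (phi 0) := by
    convert Char.isGeneralizedCharacter_sub fix_five_genChar h1 using 1
    funext g
    rcases (by decide : ∀ k : Fin 5, k = 0 ∨ k = 1 ∨ k = 2 ∨ k = 3 ∨ k = 4) (cls g) with
      e | e | e | e | e <;> simp [phi, row, e] <;> norm_num
  have h5 : (z5 : ℂ) ^ 5 = 1 := z5_prim.pow_eq_one
  fin_cases i
  · exact ha
  · convert Char.isGeneralizedCharacter_sub ha (ind_lam5_genChar 1) using 1
    funext g
    simp only [Pi.sub_apply, ind_lam5]
    rcases (by decide : ∀ k : Fin 5, k = 0 ∨ k = 1 ∨ k = 2 ∨ k = 3 ∨ k = 4) (cls g) with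
      e | e | e | e | e <;> simp [phi, row, e, α, β] <;> ring
  · convert Char.isGeneralizedCharacter_sub ha (ind_lam5_genChar 2) using 1
    funext g
    simp only [Pi.sub_apply, ind_lam5]
    rcases (by decide : ∀ k : Fin 5, k = 0 ∨ k = 1 ∨ k = 2 ∨ k = 3 ∨ k = 4) (cls g) with
      e | e | e | e | e <;> simp [phi, row, e, α, β]
    · linear_combination (z5 : ℂ) ^ 3 * h5
    · linear_combination ((z5 : ℂ) + (z5 : ℂ) ^ 1 * 0) * h5
  · convert Char.isGeneralizedCharacter_sub
      (Char.isGeneralizedCharacter_add h1 (Char.isGeneralizedCharacter_add fix_five_genChar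
        fix_five_genChar)) fix_sym_genChar using 1
    funext g
    rcases (by decide : ∀ k : Fin 5, k = 0 ∨ k = 1 ∨ k = 2 ∨ k = 3 ∨ k = 4) (cls g) with
      e | e | e | e | e <;> simp [phi, row, e] <;> norm_num

end

end Cfsg.Agent.J1Order
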