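import Cfsg.Prelude.Def_SporadicB
import Cfsg.Agent.BSWall.Setup
import Cfsg.Agent.S0840
import Cfsg.Agent.SmallGroups.Counting
import Cfsg.Agent.J1Order.Table

/-!
# Local structure of a group with an involution centralizer `Z₂ × A₅`
-/

set_option autoImplicit false

open scoped ComplexConjugate
open Cfsg

namespace Cfsg.Agent.J1Order

theorem center_D : ∀ z : D, z ≠ 1 → (∀ d : D, d * z = z * d) → z = (ε, 1) := by decide +kernel

theorem two_elt : ∀ d : D, d ^ 8 = 1 → d * d = 1 := by decide +kernel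

theorem cls_conj_invol : ∀ g : A5, cls g = 1 → ∀ g' : A5, cls g' = 1 → ∃ h : A5, h * g * h⁻¹ = g' := by
  decide +kernel

theorem invol_D : ∀ d : D, d * d = 1 → d = 1 ∨ d = (ε, 1) ∨ cls d.2 = 1 := by decide +kernel

theorem mul_self_of_cls : ∀ g : A5, cls g = 1 → g * g = 1 := by decide +kernel

theorem eps_sq : ε * ε = 1 := by decide

theorem eps15 : ε ^ 15 = ε := by decide +kernel

theorem fst_cases : ∀ a : Multiplicative (ZMod 2), a = 1 ∨ a = ε := by decide +kernel

/-- The hypotheses of the recognition theorem. -/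
structure Hyp {G : Type*} [Group G] (t : G) where
  /-- `t` is an involution central in a Sylow 2-subgroup. -/
  ht : IsTwoCentralInvolution t
  /-- The centralizer of `t`. -/
  e : Subgroup.centralizer ({t} : Set G) ≃* D

namespace Hyp

variable {G : Type*} [Group G] {t : G} (h : Hyp t)

/-- The embedding of `Z₂ × A₅`. -/
def emb : D →* G := (Subgroup.centralizer ({t} : Set G)).subtype.comp h.e.symm.toMonoidHom

include h

theorem ord : orderOf t = 2 := h.ht.1

theorem emb_injective : Function.Injective h.emb :=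
  (Subgroup.subtype_injective _).comp h.e.symm.injective

theorem emb_mem (d : D) : h.emb d ∈ Subgroup.centralizer ({t} : Set G) := (h.e.symm d).2

theorem exists_emb {g : G} (hg : g * t = t * g) : ∃ d, h.emb d = g := by
  refine ⟨h.e ⟨g, Subgroup.mem_centralizer_singleton_iff.2 hg⟩, ?_⟩
  simp [emb]

theorem emb_eps : h.emb (ε, 1) = t := by
  obtain ⟨z, hz⟩ := h.exists_emb (g := t) rfl
  rw [← center_D z ?_ ?_]
  · exact hz
  · rintro rfl
    rw [map_one] at hz
    exact Invol.inv_ne_one h.ord hz.symm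
  · intro d
    apply h.emb_injective
    rw [map_mul, map_mul, hz]
    exact Subgroup.mem_centralizer_singleton_iff.1 (h.emb_mem d)

theorem orderOf_emb (d : D) : orderOf (h.emb d) = orderOf d :=
  orderOf_injective h.emb h.emb_injective d

theorem card_C : Nat.card (Subgroup.centralizer ({t} : Set G)) = 120 := by
  rw [Nat.card_congr h.e.toEquiv, Nat.card_eq_fintype_card]
  decide +kernel

variable [Finite G]

theorem card_G : Nat.card G = 120 * (Subgroup.centralizer ({t} : Set G)).index := by
  rw [← h.card_C, Subgroup.card_mul_index]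

theorem exists_sylow : ∃ P : Sylow 2 G, t ∈ P ∧ (P : Subgroup G) ≤ Subgroup.centralizer ({t} : Set G)
    ∧ Nat.card P = 8 ∧ (∀ x ∈ P, x * x = 1) ∧ ¬ 2 ∣ (P : Subgroup G).index := by
  haveI : Fact (Nat.Prime 2) := ⟨Nat.prime_two⟩
  obtain ⟨P, htP, hc⟩ := h.ht.2
  have hle : (P : Subgroup G) ≤ Subgroup.centralizer ({t} : Set G) := fun x hx =>
    Subgroup.mem_centralizer_singleton_iff.2 (hc x hx)
  have hcard : Nat.card P = 8 := by
    obtain ⟨k, hk⟩ := P.isPGroup'.exists_card_eq
    have h1 : Nat.card P ∣ 120 := h.card_C ▸ Subgroup.card_dvd_of_le hle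
    have h2 : 2 ^ 3 ∣ Nat.card P := P.pow_dvd_card_of_pow_dvd_card
      (Dvd.dvd.trans (by norm_num) (h.card_C ▸ Subgroup.card_subgroup_dvd_card
        (Subgroup.centralizer ({t} : Set G))))
    rw [hk] at h1 h2 ⊢
    have hk3 : 3 ≤ k := (Nat.pow_dvd_pow_iff_le_right (by norm_num)).1 h2
    have hk4 : k < 4 := by
      by_contra hcon
      have := (Nat.pow_dvd_pow 2 (by omega : 4 ≤ k)).trans h1
      norm_num at this
    obtain rfl : k = 3 := by omega
    norm_num
  refine ⟨P, htP, hle, hcard, fun x hx => ?_, P.not_dvd_index⟩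
  obtain ⟨d, rfl⟩ := h.exists_emb (hc x hx)
  have h8 : (⟨h.emb d, hx⟩ : P) ^ 8 = 1 := by rw [← hcard]; exact pow_card_eq_one'
  have h8' : d ^ 8 = 1 := h.emb_injective (by
    rw [map_pow, map_one]; exact congrArg Subtype.val h8)
  rw [← map_mul, two_elt d h8', map_one]

theorem odd_index : (Subgroup.centralizer ({t} : Set G)).index % 2 = 1 := by
  obtain ⟨P, -, -, hcard, -, hidx⟩ := h.exists_sylow
  have := (P : Subgroup G).card_mul_index
  rw [h.card_G] at this
  rw [show Nat.card (P : Subgroup G) = 8 from hcard] at this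
  rw [Nat.two_dvd_ne_zero] at hidx
  omega

variable [IsSimpleGroup G]

theorem not_comm : ¬ IsMulCommutative G := by
  intro hG
  have key : ∀ a b : D, a * b = b * a := fun a b => h.emb_injective (by
    rw [map_mul, map_mul]; exact hG.is_comm.comm _ _)
  exact absurd (key (1, x0) (1, y0)) (by decide +kernel)

/-- All involutions are conjugate. -/
theorem isConj_t {w : G} (hw : orderOf w = 2) : IsConj t w := by
  classical
  haveI : Fact (Nat.Prime 2) := ⟨Nat.prime_two⟩
  haveI := Fintype.ofFinite G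
  obtain ⟨P, htP, hle, hcard, hsq, hidx⟩ := h.exists_sylow
  have hcomm : ∀ a ∈ (P : Subgroup G), ∀ b ∈ (P : Subgroup G), a * b = b * a := by
    intro a ha b hb
    have h1 := hsq _ (mul_mem ha hb)
    have ha' : a⁻¹ = a := inv_eq_of_mul_eq_one_right (hsq a ha)
    have hb' : b⁻¹ = b := inv_eq_of_mul_eq_one_right (hsq b hb)
    have : (a * b)⁻¹ = a * b := inv_eq_of_mul_eq_one_right h1
    rw [← this, mul_inv_rev, ha', hb']
  haveI : IsMulCommutative ↥(P : Subgroup G) :=
    ⟨⟨fun a b => Subtype.ext (hcomm _ a.2 _ b.2)⟩⟩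
  have ht1 : t ≠ 1 := Invol.inv_ne_one h.ord
  set S : Finset G := Finset.univ.filter fun x => x ∈ (P : Subgroup G) with hS
  set O : Finset G := S.filter fun x => IsConj t x with hO
  have hSc : S.card = 8 := by
    rw [← hcard, Nat.card_eq_fintype_card, hS, ← Fintype.card_subtype]
  -- the fused set is an orbit of the normalizer
  have hOodd : ¬ 2 ∣ O.card := by
    let N := Subgroup.normalizer ((P : Subgroup G) : Set G)
    let A : Subgroup (ConjAct G) := N.map (ConjAct.toConjAct : G ≃* ConjAct G).toMonoidHom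
    have hAO : MulAction.orbit A t = (O : Set G) := by
      ext x
      simp only [MulAction.mem_orbit_iff, hO, hS, Finset.coe_filter, Finset.mem_filter,
        Finset.mem_univ, true_and, Set.mem_setOf_eq]
      constructor
      · rintro ⟨⟨_, n, hn, rfl⟩, rfl⟩
        refine ⟨?_, isConj_iff.2 ⟨n, rfl⟩⟩
        exact (Subgroup.mem_normalizer_iff.1 hn t).1 htP
      · rintro ⟨hx, hc⟩
        obtain ⟨g, rfl⟩ := isConj_iff.1 hc
        obtain ⟨n, hn, h'⟩ := P.conj_eq_normalizer_conj_of_mem t g⁻¹ htP (by rw [inv_inv]; exact hx)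
        refine ⟨⟨ConjAct.toConjAct n⁻¹, n⁻¹, inv_mem hn, rfl⟩, ?_⟩
        show n⁻¹ * t * n⁻¹⁻¹ = g * t * g⁻¹
        simpa using h'.symm
    have hstab : (P : Subgroup G).map (ConjAct.toConjAct : G ≃* ConjAct G).toMonoidHom ≤ A :=
      Subgroup.map_mono Subgroup.le_normalizer
    have h1 : Nat.card (MulAction.orbit A t) * Nat.card (MulAction.stabilizer A t) = Nat.card A := by
      rw [← Nat.card_prod]
      exact Nat.card_congr (MulAction.orbitProdStabilizerEquivGroup A t)
    have h2 : 8 ∣ Nat.card (MulAction.stabilizer A t) := by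
      have hle2 : ((P : Subgroup G).map (ConjAct.toConjAct : G ≃* ConjAct G).toMonoidHom).subgroupOf A
          ≤ MulAction.stabilizer A t := by
        rintro ⟨v, hv⟩ ⟨p, hp, e⟩
        obtain rfl : ConjAct.toConjAct p = v := e
        rw [MulAction.mem_stabilizer_iff]
        show p * t * p⁻¹ = t
        rw [hcomm p hp t htP, mul_inv_cancel_right]
      have hc8 : Nat.card (((P : Subgroup G).map (ConjAct.toConjAct : G ≃* ConjAct G).toMonoidHom).subgroupOf A) = 8 := by
        rw [Nat.card_congr (Subgroup.subgroupOfEquivOfLe hstab).toEquiv, ← hcard,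
          Nat.card_congr ((P : Subgroup G).equivMapOfInjective _
            (ConjAct.toConjAct : G ≃* ConjAct G).injective).symm.toEquiv]
      exact hc8 ▸ Subgroup.card_dvd_of_le hle2
    have h3 : Nat.card A ∣ Nat.card G := by
      rw [Nat.card_congr (Subgroup.equivMapOfInjective N _
        (ConjAct.toConjAct : G ≃* ConjAct G).injective).symm.toEquiv]
      exact N.card_subgroup_dvd_card
    have h4 := (P : Subgroup G).card_mul_index
    rw [show Nat.card (P : Subgroup G) = 8 from hcard] at h4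
    rw [hAO] at h1
    simp only [Nat.card_coe_set_eq, Set.ncard_coe_finset] at h1
    intro h5
    obtain ⟨a, ha⟩ := h2
    obtain ⟨b, hb⟩ := h5
    obtain ⟨c, hc⟩ := h3
    apply hidx
    refine ⟨b * a * c, ?_⟩
    have : 8 * (P : Subgroup G).index = 8 * (2 * (b * a * c)) := by
      rw [h4, hc, ← h1, ha, hb]; ring
    omega
  -- so it is not a singleton
  have hO1 : ∃ x ∈ O, x ≠ t := by
    by_contra hcon
    push Not at hcon
    apply ht1
    refine SmallGroups.eq_one_of_central_in_normalizer h.not_comm P htP fun n hn => ?_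
    have hx : n * t * n⁻¹ ∈ O := by
      simp only [hO, hS, Finset.mem_filter, Finset.mem_univ, true_and]
      exact ⟨(Subgroup.mem_normalizer_iff.1 hn t).1 htP, isConj_iff.2 ⟨n, rfl⟩⟩
    have := hcon _ hx
    exact mul_inv_eq_iff_eq_mul.1 this
  -- the classes of the two kinds of involutions of the centralizer
  have hconjC : ∀ a : Multiplicative (ZMod 2), ∀ g g' : A5, cls g = 1 → cls g' = 1 →
      IsConj (h.emb (a, g)) (h.emb (a, g')) := by
    intro a g g' hg hg'
    obtain ⟨k, hk⟩ := cls_conj_invol g hg g' hg'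
    refine MonoidHom.map_isConj h.emb (isConj_iff.2 ⟨(1, k), ?_⟩)
    simp [hk]
  have kinds : ∀ x ∈ S, x ≠ 1 → x ≠ t → ∃ a g, cls g = 1 ∧ x = h.emb (a, g) := by
    intro x hx hx1 hxt
    simp only [hS, Finset.mem_filter, Finset.mem_univ, true_and] at hx
    obtain ⟨⟨a, g⟩, rfl⟩ := h.exists_emb (Subgroup.mem_centralizer_singleton_iff.1 (hle hx))
    have hdd : (a, g) * (a, g) = (1 : D) := h.emb_injective (by rw [map_mul, map_one]; exact hsq _ hx)
    rcases invol_D _ hdd with e | e | e
    · exact absurd (by rw [e, map_one]) hx1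
    · exact absurd (by rw [e, h.emb_eps]) hxt
    · exact ⟨a, g, e, rfl⟩
  obtain ⟨x₁, hx₁O, hx₁t⟩ := hO1
  obtain ⟨hx₁S, hx₁c⟩ := Finset.mem_filter.1 hx₁O
  obtain ⟨a, g, hg, rfl⟩ := kinds x₁ hx₁S (fun e1 => ht1 (isConj_one_left.1 (e1 ▸ hx₁c))) hx₁t
  have both : ∀ b : Multiplicative (ZMod 2), ∀ g' : A5, cls g' = 1 → IsConj t (h.emb (b, g')) := by
    intro b g' hg'
    by_cases hba : b = a
    · exact hba ▸ hx₁c.trans (hconjC a g g' hg hg')
    by_contra hne
    have hbad : ∀ g'', cls g'' = 1 → ¬ IsConj t (h.emb (b, g'')) := fun g'' hg'' hc =>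
      hne (hc.trans (hconjC b g'' g' hg'' hg'))
    have hb' : ∀ c, c ≠ b → c = a := fun c hc => by
      rcases fst_cases c with rfl | rfl <;> rcases fst_cases b with rfl | rfl <;>
        rcases fst_cases a with rfl | rfl <;> first | rfl | exact absurd rfl hc | exact absurd rfl hba
    have hgood : ∀ g'', cls g'' = 1 → IsConj t (h.emb (a, g'')) := fun g'' hg'' =>
      hx₁c.trans (hconjC a g g'' hg hg'')
    have hmul : ∀ c g'', h.emb (c, g'') * t = h.emb (c * ε, g'') := by
      intro c g''
      refine (congrArg (h.emb (c, g'') * ·) h.emb_eps).symm.trans ?_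
      show h.emb (c, g'') * h.emb (ε, 1) = _
      rw [← map_mul]
      simp
    set R := (S.erase 1).erase t with hR
    have hRc : R.card = 6 := by
      rw [hR, Finset.card_erase_of_mem, Finset.card_erase_of_mem, hSc]
      · simp [hS]
      · exact Finset.mem_erase.2 ⟨ht1, by rw [hS, Finset.mem_filter]; exact ⟨Finset.mem_univ _, htP⟩⟩
    have hpair : (R.filter fun x => IsConj t x).card = (R.filter fun x => ¬ IsConj t x).card := by
      have hRmul : ∀ x ∈ R, x * t ∈ R := by
        intro x hx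
        simp only [hR, Finset.mem_erase, hS, Finset.mem_filter, Finset.mem_univ, true_and] at hx ⊢
        refine ⟨?_, ?_, mul_mem hx.2.2 htP⟩
        · simpa using hx.2.1
        · intro e
          exact hx.1 ((eq_inv_of_mul_eq_one_left e).trans (Invol.inv_eq h.ord))
      have hflip : ∀ x ∈ R, (IsConj t (x * t) ↔ ¬ IsConj t x) := by
        intro x hx
        have hx' := hx
        simp only [hR, Finset.mem_erase] at hx'
        obtain ⟨c, g'', hg'', rfl⟩ := kinds x hx'.2.2 hx'.2.1 hx'.1
        rw [hmul]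
        rcases fst_cases c with rfl | rfl <;> rcases fst_cases a with rfl | rfl <;>
          rcases fst_cases b with rfl | rfl <;>
          first
            | exact absurd rfl hba
            | (simp only [one_mul, eps_sq]
               first
                 | exact iff_of_false (hbad g'' hg'') (not_not_intro (hgood g'' hg''))
                 | exact iff_of_true (hgood g'' hg'') (hbad g'' hg''))
      refine Finset.card_nbij' (fun x => x * t) (fun x => x * t) ?_ ?_ ?_ ?_
      · intro x hx
        simp only [Finset.coe_filter, Set.mem_setOf_eq] at hx ⊢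
        exact ⟨hRmul x hx.1, fun hc => (hflip x hx.1).1 hc hx.2⟩
      · intro x hx
        simp only [Finset.coe_filter, Set.mem_setOf_eq] at hx ⊢
        exact ⟨hRmul x hx.1, (hflip x hx.1).2 hx.2⟩
      · intro x _; exact Invol.cancel_mul_self h.ord x
      · intro x _; exact Invol.cancel_mul_self h.ord x
    have hsplit := Finset.card_filter_add_card_filter_not (s := R) fun x => IsConj t x
    have hOeq : O = insert t (R.filter fun x => IsConj t x) := by
      ext x
      simp only [hO, hR, Finset.mem_insert, Finset.mem_filter, Finset.mem_erase]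
      constructor
      · rintro ⟨hxS, hc⟩
        by_cases hxt : x = t
        · exact Or.inl hxt
        · exact Or.inr ⟨⟨hxt, fun e => ht1 (isConj_one_left.1 (e ▸ hc)), hxS⟩, hc⟩
      · rintro (rfl | ⟨⟨-, -, hxS⟩, hc⟩)
        · exact ⟨by rw [hS, Finset.mem_filter]; exact ⟨Finset.mem_univ _, htP⟩, IsConj.refl _⟩
        · exact ⟨hxS, hc⟩
    apply hOodd
    rw [hOeq, Finset.card_insert_of_notMem (by simp [hR])]
    omega
  -- every involution is conjugate into the Sylow subgroup
  have hpg : IsPGroup 2 (Subgroup.zpowers w) := by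
    refine IsPGroup.of_card (n := 1) ?_
    rw [Nat.card_zpowers, hw, pow_one]
  obtain ⟨Q, hQ⟩ := hpg.exists_le_sylow
  obtain ⟨c, hc⟩ := MulAction.exists_smul_eq G Q P
  have hcw : c * w * c⁻¹ ∈ (P : Subgroup G) := by
    rw [← hc]
    refine Subgroup.mem_pointwise_smul_iff_inv_smul_mem.2 ?_
    simpa [MulAut.conj, mul_assoc] using hQ (Subgroup.mem_zpowers w)
  refine IsConj.trans ?_ (isConj_iff.2 ⟨c⁻¹, by group⟩ : IsConj (c * w * c⁻¹) w)
  have hne1 : c * w * c⁻¹ ≠ 1 := Invol.inv_ne_one (by rw [Invol.orderOf_conj, hw])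
  by_cases hwt : c * w * c⁻¹ = t
  · rw [hwt]
  obtain ⟨b, g', hg', e⟩ := kinds _ (by simp [hS, hcw]) hne1 hwt
  rw [e]
  exact both b g' hg'

/-- The centralizer counts. -/
theorem cnt_eq {g : A5} (hg : cls g ≠ 1) :
    BSWall.cnt (h.emb (ε, g)) = ![30, 0, 6, 10, 10] (cls g) := by
  classical
  rw [← cntD_eq g hg, cntD, ← Fintype.card_subtype, ← Nat.card_eq_fintype_card]
  have h15 : h.emb (ε, g) ^ 15 = t := by
    rw [← map_pow]
    refine Eq.trans (congrArg h.emb ?_) h.emb_eps
    refine Prod.ext ?_ ?_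
    · rw [Prod.pow_fst]; exact eps15
    · rw [Prod.pow_snd]; exact pow15_eq g hg
  have two : ∀ d : D, orderOf (h.emb d) = 2 ↔ d * d = 1 ∧ d ≠ 1 := fun d => by
    rw [h.orderOf_emb]
    exact ⟨fun e => ⟨Invol.inv_mul_self e, Invol.inv_ne_one e⟩,
      fun e => Invol.orderOf_eq_two e.1 e.2⟩
  refine (Nat.card_congr (Equiv.ofBijective
    (fun d : {d : D // d * d = 1 ∧ d ≠ 1 ∧ d * (ε, g) * (d * (ε, g)) = 1 ∧ d * (ε, g) ≠ 1} =>
      (⟨h.emb d.1, (two _).2 ⟨d.2.1, d.2.2.1⟩,
        by rw [← map_mul]; exact (two _).2 ⟨d.2.2.2.1, d.2.2.2.2⟩⟩ :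
          {u : G // orderOf u = 2 ∧ orderOf (u * h.emb (ε, g)) = 2})) ⟨?_, ?_⟩)).symm
  · intro a b e
    simp only [Subtype.mk.injEq] at e
    exact Subtype.ext (h.emb_injective e)
  · rintro ⟨u, hu, huy⟩
    have hinv : u * h.emb (ε, g) * u = (h.emb (ε, g))⁻¹ :=
      ((BSWall.orderOf_mul_eq_two_iff hu).1 huy).1
    have hut : u * t * u = t := by
      have e1 : u * h.emb (ε, g) * u⁻¹ = (h.emb (ε, g))⁻¹ := by rw [Invol.inv_eq hu]; exact hinv
      have e2 : u * t * u⁻¹ = t⁻¹ := by rw [← h15, ← conj_pow, e1, inv_pow]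
      rwa [Invol.inv_eq hu, Invol.inv_eq h.ord] at e2
    have hcm : u * t = t * u := by
      calc u * t = u * t * (u * u) := by rw [Invol.inv_mul_self hu, mul_one]
        _ = t * u := by rw [← mul_assoc, hut]
    obtain ⟨d, rfl⟩ := h.exists_emb hcm
    rw [← map_mul] at huy
    exact ⟨⟨d, ((two _).1 hu).1, ((two _).1 hu).2, ((two _).1 huy).1, ((two _).1 huy).2⟩, rfl⟩

/-- The structure constant formula. -/
theorem cnt_formula [Fintype G] (y : G) :
    (BSWall.cnt y : ℂ) = ((Subgroup.centralizer ({t} : Set G)).index : ℂ) *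
      ((Subgroup.centralizer ({t} : Set G)).index : ℂ) / (Nat.card G : ℂ) *
      ∑ χ : IrrCharacter G, (χ : G → ℂ) t * (χ : G → ℂ) t * conj ((χ : G → ℂ) y) /
        (χ : G → ℂ) 1 := by
  have hc : ∀ u : G, orderOf u = 2 ↔ IsConj t u := fun u =>
    ⟨fun hu => h.isConj_t hu, fun hu => (Invol.orderOf_eq_of_isConj hu).symm.trans h.ord⟩
  have e1 : Nat.card {x : G // IsConj t x} = (Subgroup.centralizer ({t} : Set G)).index := by
    rw [← ClassSize.ncard_setOf_isConj t, ← Nat.card_coe_set_eq]
    rfl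
  have e2 : Nat.card {p : G × G // IsConj t p.1 ∧ IsConj t p.2 ∧ p.1 * p.2 = y} = BSWall.cnt y := by
    refine Nat.card_congr
      { toFun := fun p => ⟨p.1.1, (hc _).2 p.2.1, by
          have : p.1.2 = p.1.1 * y :=
            (Invol.mul_self_cancel ((hc _).2 p.2.1) p.1.2).symm.trans (congrArg (p.1.1 * ·) p.2.2.2)
          rw [← this]; exact (hc _).2 p.2.2.1⟩
        invFun := fun u => ⟨(u.1, u.1 * y), (hc _).1 u.2.1, (hc _).1 u.2.2,
          Invol.mul_self_cancel u.2.1 y⟩
        left_inv := fun p => Subtype.ext (Prod.ext rfl (by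
          exact (congrArg (p.1.1 * ·) p.2.2.2).symm.trans
            (Invol.mul_self_cancel ((hc _).2 p.2.1) p.1.2)))
        right_inv := fun u => rfl }
  have := S0840.result t t y
  rw [e1, e2, finsum_eq_sum_of_fintype] at this
  exact this

end Hyp

end Cfsg.Agent.J1Order
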