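import Cfsg.Agent.CharInd.TI
import Cfsg.Agent.J1Order.Setup

/-!
# The induced functions, their norms and the equations they give
-/

set_option autoImplicit false

open scoped ComplexConjugate
open Cfsg

namespace Cfsg.Agent.J1Order

noncomputable section

/-- The sign character of the group of order two. -/
def sgn2 : Multiplicative (ZMod 2) →* ℂˣ := cycHom 2 (-1) (by norm_num)

theorem sgn2_eps : ((sgn2 ε : ℂˣ) : ℂ) = -1 := by
  simp [sgn2, cycHom, ε, ZMod.val_one]

/-- `(λ⁺ - λ⁻) ⊗ φ`. -/
def F (i : Fin 4) (d : D) : ℂ := if d.1 = 1 then 0 else 2 * phi i d.2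

theorem F_genChar (i : Fin 4) : IsGeneralizedCharacter D (F i) := by
  have h1 : IsGeneralizedCharacter D (fun d : D => (1 : ℂ) - ((sgn2 d.1 : ℂˣ) : ℂ)) :=
    CharInd.genChar_sub (Char.isGeneralizedCharacter_of_irr Char.isIrrCharacter_const_one)
      (Char.isGeneralizedCharacter_comp
        (Char.isGeneralizedCharacter_of_irr (Char.isIrrCharacter_monoidHom sgn2))
        (MonoidHom.fst (Multiplicative (ZMod 2)) A5))
  have h2 := Char.isGeneralizedCharacter_comp (phi_genChar i)
    (MonoidHom.snd (Multiplicative (ZMod 2)) A5)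
  convert CharInd.genChar_mul h1 h2 using 1
  funext d
  obtain ⟨a, g⟩ := d
  rcases fst_cases a with rfl | rfl
  · simp [F]
  · simp only [F, Function.comp_apply, MonoidHom.coe_snd, sgn2_eps, Pi.mul_apply,
      if_neg (show ε ≠ 1 by decide)]
    norm_num

theorem phi_eq_zero (i : Fin 4) {g : A5} (hg : cls g = 1) : phi i g = 0 := by
  fin_cases i <;> simp [phi, row, hg]

theorem sum_eps {M : Type*} [AddCommMonoid M] (w : D → M) (hw : ∀ g, w (1, g) = 0) :
    ∑ d : D, w d = ∑ g : A5, w (ε, g) := by
  rw [Fintype.sum_prod_type]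
  refine Finset.sum_eq_single ε ?_ (by simp)
  intro a _ ha
  rcases fst_cases a with rfl | rfl
  · exact Finset.sum_eq_zero fun g _ => hw g
  · exact absurd rfl ha

/-- The combination giving the value at `t`. -/
theorem delta_t (k : Fin 5) :
    4 * row 0 k + 3 * row 1 k + 3 * row 2 k - 5 * row 3 k = if k = 0 then 60 else 0 := by
  have hb : β = -1 - α := by linear_combination α_add_β
  fin_cases k <;> simp [row, hb] <;> ring

/-- The combination giving the value at `tx`. -/
theorem delta_x (k : Fin 5) : row 0 k + row 3 k = if k = 2 then 3 else 0 := by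
  fin_cases k <;> simp [row] <;> norm_num

namespace Hyp

variable {G : Type*} [Group G] [Fintype G] {t : G} (h : Hyp t)

/-- The induced class functions. -/
def f (i : Fin 4) : G → ℂ :=
  indFun (Subgroup.centralizer ({t} : Set G)) fun c => F i (h.e c)

include h

theorem f_genChar (i : Fin 4) : IsGeneralizedCharacter G (h.f i) :=
  CharInd.genChar_indFun _ (Char.isGeneralizedCharacter_comp (F_genChar i) h.e.toMonoidHom)

theorem f_class (i : Fin 4) : IsClassFunction G (h.f i) := CharInd.indFun_isClassFunction _ _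

theorem eq_emb (c : Subgroup.centralizer ({t} : Set G)) : h.emb (h.e c) = c := by simp [emb]

theorem support (i : Fin 4) (c : Subgroup.centralizer ({t} : Set G)) (hc : F i (h.e c) ≠ 0) :
    (c : G) ^ 15 = t := by
  obtain ⟨a, g, hd⟩ : ∃ a g, h.e c = (a, g) := ⟨_, _, rfl⟩
  rw [hd] at hc
  have ha : a = ε := (fst_cases a).resolve_left fun e => hc (by simp [F, e])
  subst ha
  have hg : cls g ≠ 1 := fun e => hc (by simp [F, phi_eq_zero i e])
  refine Eq.trans ?_ h.emb_eps
  rw [← h.eq_emb c, hd, ← map_pow]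
  exact congrArg h.emb
    (Prod.ext (by rw [Prod.pow_fst]; exact eps15) (by rw [Prod.pow_snd]; exact pow15_eq g hg))

theorem f_eq_zero (i : Fin 4) {y : G} (hy : y ^ 15 = 1) : h.f i y = 0 := by
  rw [f, CharInd.indFun_apply, Finset.sum_eq_zero, mul_zero]
  intro x _
  by_cases hm : x⁻¹ * y * x ∈ Subgroup.centralizer ({t} : Set G)
  · rw [CharInd.extendByZero_mem _ _ hm]
    by_contra hne
    have e1 := h.support i ⟨_, hm⟩ hne
    have e2 : (x⁻¹ * y * x) ^ 15 = 1 := by
      have := (conj_pow (a := x⁻¹) (b := y) (i := 15))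
      rw [inv_inv] at this
      rw [this, hy]; group
    exact Invol.inv_ne_one h.ord (e1.symm.trans e2)
  · exact CharInd.extendByZero_notMem _ _ hm

theorem f_eps (i : Fin 4) {g : A5} (hg : cls g ≠ 1) : h.f i (h.emb (ε, g)) = 2 * phi i g := by
  have hT : ∀ z : G, z ∉ Subgroup.centralizer ({t} : Set G) → ∀ s ∈ {x : G | x ^ 15 = t},
      z * s * z⁻¹ ∈ {x : G | x ^ 15 = t} → s = 1 := by
    intro z hz s hs hs'
    exfalso
    apply hz
    simp only [Set.mem_setOf_eq] at hs hs'
    rw [conj_pow, hs] at hs'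
    exact Subgroup.mem_centralizer_singleton_iff.2 (mul_inv_eq_iff_eq_mul.1 hs')
  have h15 : h.emb (ε, g) ^ 15 = t := by
    refine Eq.trans ?_ h.emb_eps
    rw [← map_pow]
    exact congrArg h.emb
      (Prod.ext (by rw [Prod.pow_fst]; exact eps15) (by rw [Prod.pow_snd]; exact pow15_eq g hg))
  have key := CharInd.indFun_ti_apply (Subgroup.centralizer ({t} : Set G)) {x : G | x ^ 15 = t} hT
    (ψ := fun c => F i (h.e c))
    (Char.isGeneralizedCharacter_isClassFunction (Char.isGeneralizedCharacter_comp (F_genChar i) h.e.toMonoidHom))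
    (fun c hc => by by_contra hne; exact hc (h.support i c hne))
    (h.e.symm (ε, g)) h15 ?_
  · rw [f]
    refine key.trans ?_
    simp [F, show ε ≠ 1 by decide]
  · intro e
    have := congrArg h.e e
    rw [MulEquiv.apply_symm_apply, map_one] at this
    exact (show ε ≠ 1 by decide) (congrArg Prod.fst this)

theorem inner_f (i : Fin 4) {ψ : G → ℂ} (hψ : IsClassFunction G ψ) :
    classInner (h.f i) ψ = (60 : ℂ)⁻¹ * ∑ g : A5, phi i g * conj (ψ (h.emb (ε, g))) := by
  classical
  rw [f, CharInd.classInner_indFun_left _ _ hψ]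
  simp only [classInner, h.card_C]
  rw [Fintype.sum_equiv h.e.toEquiv (fun c => F i (h.e c) * conj (ψ c))
    (fun d => F i d * conj (ψ (h.emb d))) fun c => by simp [h.eq_emb c],
    sum_eps _ fun g => by simp [F]]
  simp only [F, if_neg (show ε ≠ 1 by decide), mul_assoc, ← Finset.mul_sum]
  push_cast
  ring

/-- The Gram matrix. -/
def gram : Fin 4 → Fin 4 → ℂ := ![![2, 0, 0, 0], ![0, 4, 2, 2], ![0, 2, 4, 2], ![0, 2, 2, 4]]

theorem inner_ff (i j : Fin 4) : classInner (h.f i) (h.f j) = gram i j := by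
  rw [h.inner_f i (h.f_class j)]
  have : ∀ g : A5, phi i g * conj (h.f j (h.emb (ε, g))) =
      (fun k => 2 * row i k * row j k) (cls g) := fun g => by
    by_cases hg : cls g = 1
    · rw [phi_eq_zero i hg, zero_mul]
      fin_cases i <;> simp [row, hg]
    · rw [h.f_eps j hg, map_mul, phi, phi, conj_row, map_ofNat]; ring
  rw [Finset.sum_congr rfl fun g _ => this g, sum_cls fun k => 2 * row i k * row j k,
    Fin.sum_univ_five]
  have hs := α_sq
  have hb : β = -1 - α := by linear_combination α_add_β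
  fin_cases i <;> fin_cases j <;> simp [gram, row, csize, hb] <;>
    first | ring1 | linear_combination (0 : ℂ) * hs | linear_combination (4 / 5 : ℂ) * hs |
      linear_combination (-(4 / 5) : ℂ) * hs | linear_combination (2 / 5 : ℂ) * hs |
      linear_combination (-(2 / 5) : ℂ) * hs

theorem inner_f_one (i : Fin 4) :
    classInner (h.f i) (fun _ => (1 : ℂ)) = ![0, 1, 1, 1] i := by
  rw [h.inner_f i (fun _ _ => rfl)]
  simp only [map_one, mul_one, phi]
  rw [sum_cls (row i), Fin.sum_univ_five]
  have hb : β = -1 - α := by linear_combination α_add_β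
  fin_cases i <;> simp [row, csize, hb] <;> ring

theorem value_t {ψ : G → ℂ} (hψ : IsClassFunction G ψ) :
    4 * classInner (h.f 0) ψ + 3 * classInner (h.f 1) ψ + 3 * classInner (h.f 2) ψ -
      5 * classInner (h.f 3) ψ = conj (ψ t) := by
  simp only [h.inner_f _ hψ]
  have : ∀ g : A5, (4 * phi 0 g + 3 * phi 1 g + 3 * phi 2 g - 5 * phi 3 g) *
      conj (ψ (h.emb (ε, g))) = if g = 1 then 60 * conj (ψ t) else 0 := fun g => by
    simp only [phi, delta_t]
    by_cases hg : g = 1
    · subst hg; rw [if_pos cls_one, if_pos rfl, h.emb_eps]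
    · rw [if_neg (fun e => hg (eq_one_of_cls g e)), if_neg hg, zero_mul]
  have hsum := Finset.sum_congr (rfl : (Finset.univ : Finset A5) = _) fun g _ => this g
  simp only [add_mul, sub_mul, Finset.sum_add_distrib, Finset.sum_sub_distrib, mul_assoc,
    ← Finset.mul_sum, Finset.sum_ite_eq', Finset.mem_univ, if_true] at hsum
  linear_combination (60 : ℂ)⁻¹ * hsum

theorem value_tx {ψ : G → ℂ} (hψ : IsClassFunction G ψ) :
    classInner (h.f 0) ψ + classInner (h.f 3) ψ = conj (ψ (h.emb (ε, x0))) := by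
  simp only [h.inner_f _ hψ]
  have : ∀ g : A5, (phi 0 g + phi 3 g) * conj (ψ (h.emb (ε, g))) =
      (fun k => if k = 2 then 3 * conj (ψ (h.emb (ε, x0))) else 0) (cls g) := fun g => by
    simp only [phi, delta_x]
    by_cases hg : cls g = 2
    · rw [if_pos hg, if_pos hg]
      obtain ⟨k, hk⟩ := cls_conj_x0 g hg
      congr 2
      have : ((1, k) : D) * (ε, x0) * (1, k)⁻¹ = (ε, g) := by simp [hk]
      rw [← this, map_mul, map_mul, map_inv]
      exact hψ _ _
    · rw [if_neg hg, if_neg hg, zero_mul]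
  have hsum := Finset.sum_congr (rfl : (Finset.univ : Finset A5) = _) fun g _ => this g
  rw [sum_cls fun k => if k = 2 then 3 * conj (ψ (h.emb (ε, x0))) else 0] at hsum
  simp only [add_mul, Finset.sum_add_distrib, Fin.sum_univ_five] at hsum
  simp [csize] at hsum
  linear_combination (60 : ℂ)⁻¹ * hsum

variable [IsSimpleGroup G]

/-- The right-hand sides of the order equations. -/
def rhs : Fin 4 → ℂ := ![0, 1200, 1200, 720]

theorem order_eq (i : Fin 4) :
    ((Subgroup.centralizer ({t} : Set G)).index : ℂ) * ∑ χ : IrrCharacter G,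
      (χ : G → ℂ) t * (χ : G → ℂ) t * classInner (h.f i) (χ : G → ℂ) / (χ : G → ℂ) 1 = rhs i := by
  classical
  set I : ℂ := ((Subgroup.centralizer ({t} : Set G)).index : ℂ)
  have hg : (Nat.card G : ℂ) = 120 * I := by rw [h.card_G]; push_cast; rfl
  have hI : I ≠ 0 := Nat.cast_ne_zero.2 Subgroup.index_ne_zero_of_finite
  have hcl : IsClassFunction G fun y => (BSWall.cnt y : ℂ) := fun a c => by
    simp only [BSWall.cnt_conj]
  have e1 : classInner (h.f i) (fun y => (BSWall.cnt y : ℂ)) = (60 : ℂ)⁻¹ *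
      ∑ g : A5, (fun k => row i k * (![30, 0, 6, 10, 10] k : ℕ)) (cls g) := by
    rw [h.inner_f i hcl]
    congr 1
    refine Finset.sum_congr rfl fun g _ => ?_
    by_cases hg : cls g = 1
    · rw [phi_eq_zero i hg, zero_mul]
      fin_cases i <;> simp [row, hg]
    · simp only [Complex.conj_natCast, h.cnt_eq hg, phi]
  have e2 : classInner (h.f i) (fun y => (BSWall.cnt y : ℂ)) =
      I * I / (Nat.card G : ℂ) * ∑ χ : IrrCharacter G,
        (χ : G → ℂ) t * (χ : G → ℂ) t * classInner (h.f i) (χ : G → ℂ) / (χ : G → ℂ) 1 := by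
    simp only [classInner, Complex.conj_natCast]
    simp only [h.cnt_formula, Finset.mul_sum, Finset.sum_div]
    rw [Finset.sum_comm]
    refine Finset.sum_congr rfl fun χ _ => Finset.sum_congr rfl fun y _ => ?_
    ring
  rw [e2, hg, show I * I / (120 * I) = I / 120 by field_simp] at e1
  rw [sum_cls fun k => row i k * ((![30, 0, 6, 10, 10] k : ℕ) : ℂ)] at e1
  have hb : β = -1 - α := by linear_combination α_add_β
  have hk : ∑ k : Fin 5, csize k • (row i k * ((![30, 0, 6, 10, 10] k : ℕ) : ℂ)) = rhs i / 2 := by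
    fin_cases i <;> simp [Fin.sum_univ_five, row, csize, rhs, hb] <;> ring
  linear_combination 120 * e1 + 2 * hk

end Hyp

end

end Cfsg.Agent.J1Order
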