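import Cfsg.Agent.J1Order.Funcs

/-!
# Multiplicities in restrictions to subgroups of the centralizer
-/

set_option autoImplicit false

open scoped ComplexConjugate
open Cfsg

namespace Cfsg.Agent.J1Order

/-- The type of an element of `D`. -/
def typ (d : D) : Fin 5 :=
  if d = 1 then 0 else if d * d = 1 then 1 else if cls d.2 = 2 then (if d.1 = 1 then 2 else 3) else 4

/-- The subgroup `Z₂ × V₄`. -/
def H8 : Subgroup D where
  carrier := {d | d.2 * d.2 = 1 ∧ (d.2 : Equiv.Perm (Fin 5)) 4 = 4}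
  one_mem' := by simp
  mul_mem' := by
    intro a b ha hb
    have key : ∀ g h : A5, (g * g = 1 ∧ (g : Equiv.Perm (Fin 5)) 4 = 4) →
        (h * h = 1 ∧ (h : Equiv.Perm (Fin 5)) 4 = 4) →
        (g * h) * (g * h) = 1 ∧ ((g * h : A5) : Equiv.Perm (Fin 5)) 4 = 4 := by decide +kernel
    exact key a.2 b.2 ha hb
  inv_mem' := by
    intro a ha
    have key : ∀ g : A5, (g * g = 1 ∧ (g : Equiv.Perm (Fin 5)) 4 = 4) →
        g⁻¹ * g⁻¹ = 1 ∧ ((g⁻¹ : A5) : Equiv.Perm (Fin 5)) 4 = 4 := by decide +kernel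
    exact key a.2 ha

/-- The subgroup `Z₂ × A₄`. -/
def H24 : Subgroup D where
  carrier := {d | (d.2 : Equiv.Perm (Fin 5)) 4 = 4}
  one_mem' := by simp
  mul_mem' := by
    intro a b ha hb
    have key : ∀ g h : A5, (g : Equiv.Perm (Fin 5)) 4 = 4 → (h : Equiv.Perm (Fin 5)) 4 = 4 →
        ((g * h : A5) : Equiv.Perm (Fin 5)) 4 = 4 := by decide +kernel
    exact key a.2 b.2 ha hb
  inv_mem' := by
    intro a ha
    have key : ∀ g : A5, (g : Equiv.Perm (Fin 5)) 4 = 4 →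
        ((g⁻¹ : A5) : Equiv.Perm (Fin 5)) 4 = 4 := by decide +kernel
    exact key a.2 ha

/-- Stabilizer of the set `{3, 4}`. -/
def in12 (g : A5) : Prop :=
  ((g : Equiv.Perm (Fin 5)) 3 = 3 ∧ (g : Equiv.Perm (Fin 5)) 4 = 4) ∨
    ((g : Equiv.Perm (Fin 5)) 3 = 4 ∧ (g : Equiv.Perm (Fin 5)) 4 = 3)

instance : DecidablePred in12 := fun g => inferInstanceAs (Decidable (_ ∨ _))

/-- The subgroup `Z₂ × S₃`. -/
def H12 : Subgroup D where
  carrier := {d | in12 d.2}
  one_mem' := by simp [in12]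
  mul_mem' := by
    intro a b ha hb
    have key : ∀ g h : A5, in12 g → in12 h → in12 (g * h) := by decide +kernel
    exact key a.2 b.2 ha hb
  inv_mem' := by
    intro a ha
    have key : ∀ g : A5, in12 g → in12 g⁻¹ := by decide +kernel
    exact key a.2 ha

instance : DecidablePred (· ∈ H8) := fun d =>
  inferInstanceAs (Decidable (d.2 * d.2 = 1 ∧ (d.2 : Equiv.Perm (Fin 5)) 4 = 4))

instance : DecidablePred (· ∈ H24) := fun d =>
  inferInstanceAs (Decidable ((d.2 : Equiv.Perm (Fin 5)) 4 = 4))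

instance : DecidablePred (· ∈ H12) := fun d => inferInstanceAs (Decidable (in12 d.2))

/-- The sign on `Z₂ × S₃`. -/
def s12 (d : D) : ℤ := if (d.2 : Equiv.Perm (Fin 5)) 3 = 3 then 1 else -1

theorem s12_mul : ∀ g h : A5, in12 g → in12 h →
    s12 (1, g * h) = s12 (1, g) * s12 (1, h) := by decide +kernel

/-- The index of the pairing. -/
def kap (g : A5) : Multiplicative (ZMod 3) :=
  Multiplicative.ofAdd
    (if (g : Equiv.Perm (Fin 5)) 3 = 3 then (((g : Equiv.Perm (Fin 5)) 0).val : ZMod 3)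
    else if (g : Equiv.Perm (Fin 5)) 0 = 3 then (((g : Equiv.Perm (Fin 5)) 3).val : ZMod 3)
    else -(((g : Equiv.Perm (Fin 5)) 3).val : ZMod 3) - (((g : Equiv.Perm (Fin 5)) 0).val : ZMod 3))

theorem kap_mul : ∀ g h : A5, (g : Equiv.Perm (Fin 5)) 4 = 4 → (h : Equiv.Perm (Fin 5)) 4 = 4 →
    kap (g * h) = kap g * kap h := by decide +kernel

/-- The weight of the pair of cubic characters. -/
def w24 (d : D) : ℤ := if kap d.2 = 1 then 2 else -1

theorem W8 : ∀ k : Fin 5,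
    ∑ h ∈ (Finset.univ : Finset H8).filter (fun h : H8 => typ h.1 = k), (1 : ℤ) =
      ![1, 7, 0, 0, 0] k := by decide +kernel

theorem W24 : ∀ k : Fin 5,
    ∑ h ∈ (Finset.univ : Finset H24).filter (fun h : H24 => typ h.1 = k), (1 : ℤ) =
      ![1, 7, 8, 8, 0] k := by decide +kernel

theorem W24' : ∀ k : Fin 5,
    ∑ h ∈ (Finset.univ : Finset H24).filter (fun h : H24 => typ h.1 = k), w24 h.1 =
      ![2, 14, -8, -8, 0] k := by decide +kernel

theorem W12 : ∀ k : Fin 5,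
    ∑ h ∈ (Finset.univ : Finset H12).filter (fun h : H12 => typ h.1 = k), s12 h.1 =
      ![1, -5, 2, 2, 0] k := by decide +kernel

theorem typ_four : (∀ h : H8, typ h.1 ≠ 4) ∧ (∀ h : H24, typ h.1 ≠ 4) ∧
    (∀ h : H12, typ h.1 ≠ 4) := by decide +kernel

theorem card_H : Fintype.card H8 = 8 ∧ Fintype.card H24 = 24 ∧ Fintype.card H12 = 12 := by
  decide +kernel

theorem typ_zero : ∀ d : D, typ d = 0 → d = 1 := by decide +kernel

theorem typ_one : ∀ d : D, typ d = 1 → d * d = 1 ∧ d ≠ 1 := by decide +kernel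

theorem typ_two : ∀ d : D, typ d = 2 → d.1 = 1 ∧ cls d.2 = 2 := by decide +kernel

theorem typ_three : ∀ d : D, typ d = 3 → d.1 = ε ∧ cls d.2 = 2 := by decide +kernel

namespace Hyp

variable {G : Type*} [Group G] [Fintype G] [IsSimpleGroup G] {t : G} (h : Hyp t)
include h

/-- The value of a class function at an element of `Z₂ × A₅` off the elements of order 5, 10. -/
theorem value_typ {χ : G → ℂ} (hχ : IsClassFunction G χ) (d : D) (h4 : typ d ≠ 4) :
    χ (h.emb d) = ![χ 1, χ t, χ (h.emb (1, x0)), χ (h.emb (ε, x0)), 0] (typ d) := by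
  obtain ⟨a, g⟩ := d
  have conjx : ∀ b : Multiplicative (ZMod 2), cls g = 2 → χ (h.emb (b, g)) = χ (h.emb (b, x0)) := by
    intro b hg
    obtain ⟨k, hk⟩ := cls_conj_x0 g hg
    have : ((1, k) : D) * (b, x0) * (1, k)⁻¹ = (b, g) := by simp [hk]
    rw [← this, map_mul, map_mul, map_inv]
    exact hχ _ _
  rcases (by decide : ∀ k : Fin 5, k = 0 ∨ k = 1 ∨ k = 2 ∨ k = 3 ∨ k = 4) (typ (a, g)) with
    e | e | e | e | e <;> rw [e]
  · rw [typ_zero _ e, map_one]; rfl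
  · have hinv : orderOf (h.emb (a, g)) = 2 := by
      rw [h.orderOf_emb]; exact Invol.orderOf_eq_two (typ_one _ e).1 (typ_one _ e).2
    obtain ⟨x, hx⟩ := isConj_iff.1 (h.isConj_t hinv)
    rw [← hx, hχ]
    rfl
  · obtain ⟨ha, hg⟩ := typ_two _ e
    obtain rfl : a = 1 := ha
    rw [conjx 1 hg]; rfl
  · obtain ⟨ha, hg⟩ := typ_three _ e
    obtain rfl : a = ε := ha
    rw [conjx ε hg]; rfl
  · exact absurd e h4

theorem weighted (K : Subgroup D) [DecidablePred (· ∈ K)] (w : D → ℤ) (W : Fin 5 → ℤ)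
    (hW : ∀ k, ∑ a ∈ (Finset.univ : Finset K).filter (fun a : K => typ a.1 = k), w a.1 = W k)
    (h4 : ∀ a : K, typ a.1 ≠ 4) {χ : G → ℂ} (hχ : IsClassFunction G χ) :
    ∑ a : K, (w a.1 : ℂ) * χ (h.emb a.1) = W 0 * χ 1 + W 1 * χ t + W 2 * χ (h.emb (1, x0))
      + W 3 * χ (h.emb (ε, x0)) := by
  rw [Finset.sum_congr rfl fun a _ => by rw [h.value_typ hχ a.1 (h4 a)],
    ← Finset.sum_fiberwise Finset.univ (fun a : K => typ a.1), Fin.sum_univ_five]
  have e : ∀ k, ∑ a ∈ (Finset.univ : Finset K).filter (fun a : K => typ a.1 = k),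
      (w a.1 : ℂ) * ![χ 1, χ t, χ (h.emb (1, x0)), χ (h.emb (ε, x0)), 0] (typ a.1) =
      (W k : ℂ) * ![χ 1, χ t, χ (h.emb (1, x0)), χ (h.emb (ε, x0)), 0] k := by
    intro k
    rw [← hW k]
    push_cast
    rw [Finset.sum_mul]
    exact Finset.sum_congr rfl fun a ha => by rw [(Finset.mem_filter.1 ha).2]
  simp only [e]
  simp

/-- The multiplicity of a linear character. -/
theorem mult (K : Subgroup D) [DecidablePred (· ∈ K)] (lam : K →* ℂˣ) {χ : G → ℂ}
    (hχ : IsCharacter G χ) :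
    ∃ n : ℕ, ∑ a : K, conj ((lam a : ℂˣ) : ℂ) * χ (h.emb a.1) = (Fintype.card K : ℂ) * n := by
  have hres : IsCharacter K (χ ∘ (h.emb.comp K.subtype)) := Char.isCharacter_comp hχ _
  obtain ⟨n, hn⟩ := Char.isCharacter_classInner_nat hres
    (⟨_, Char.isIrrCharacter_monoidHom lam⟩ : IrrCharacter K)
  refine ⟨n, ?_⟩
  simp only [classInner, Nat.card_eq_fintype_card] at hn
  have hK : (Fintype.card K : ℂ) ≠ 0 := Nat.cast_ne_zero.2 Fintype.card_ne_zero
  rw [← hn, mul_inv_cancel_left₀ hK]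
  exact Finset.sum_congr rfl fun a _ => by rw [mul_comm]; rfl

theorem mult8 {χ : G → ℂ} (hχ : IsCharacter G χ) : ∃ n : ℕ, χ 1 + 7 * χ t = 8 * n := by
  obtain ⟨n, hn⟩ := h.mult H8 1 hχ
  have := h.weighted H8 (fun _ => 1) _ W8 typ_four.1 (Char.isCharacter_isClassFunction hχ)
  simp only [MonoidHom.one_apply, Units.val_one, map_one, one_mul, card_H.1] at hn
  refine ⟨n, ?_⟩
  simp only [Int.cast_one, one_mul, hn] at this
  simpa using this.symm

theorem mult24 {χ : G → ℂ} (hχ : IsCharacter G χ) : ∃ n : ℕ,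
    χ 1 + 7 * χ t + 8 * χ (h.emb (1, x0)) + 8 * χ (h.emb (ε, x0)) = 24 * n := by
  obtain ⟨n, hn⟩ := h.mult H24 1 hχ
  have := h.weighted H24 (fun _ => 1) _ W24 typ_four.2.1 (Char.isCharacter_isClassFunction hχ)
  simp only [MonoidHom.one_apply, Units.val_one, map_one, one_mul, card_H.2.1] at hn
  refine ⟨n, ?_⟩
  simp only [Int.cast_one, one_mul, hn] at this
  simpa using this.symm

theorem mult12 {χ : G → ℂ} (hχ : IsCharacter G χ) : ∃ n : ℕ,
    χ 1 - 5 * χ t + 2 * χ (h.emb (1, x0)) + 2 * χ (h.emb (ε, x0)) = 12 * n := by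
  let σ : H12 →* ℤ :=
    { toFun := fun a => s12 a.1
      map_one' := rfl
      map_mul' := fun a b => s12_mul a.1.2 b.1.2 a.2 b.2 }
  let lam : H12 →* ℂˣ := ((Int.castRingHom ℂ).toMonoidHom.comp σ).toHomUnits
  obtain ⟨n, hn⟩ := h.mult H12 lam hχ
  have := h.weighted H12 s12 _ W12 typ_four.2.2 (Char.isCharacter_isClassFunction hχ)
  have e : ∀ a : H12, conj ((lam a : ℂˣ) : ℂ) = ((s12 a.1 : ℤ) : ℂ) := fun a => by
    show conj ((s12 a.1 : ℤ) : ℂ) = _
    exact map_intCast _ _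
  simp only [e, card_H.2.2, this] at hn
  refine ⟨n, ?_⟩
  simp at hn
  linear_combination hn

theorem mult24w {χ : G → ℂ} (hχ : IsCharacter G χ) : ∃ n : ℕ,
    2 * χ 1 + 14 * χ t - 8 * χ (h.emb (1, x0)) - 8 * χ (h.emb (ε, x0)) = 24 * n := by
  let κ : H24 →* Multiplicative (ZMod 3) :=
    MonoidHom.mk' (fun a => kap a.1.2) fun a b => kap_mul a.1.2 b.1.2 a.2 b.2
  let w : ℂˣ := Units.mk0 (Complex.exp (2 * Real.pi * Complex.I / (3 : ℕ))) (Complex.exp_ne_zero _)
  have hp : IsPrimitiveRoot ((w : ℂˣ) : ℂ) 3 := Complex.isPrimitiveRoot_exp 3 (by norm_num)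
  have hw : w ^ 3 = 1 := Units.ext (by simpa using hp.pow_eq_one)
  have hw2 : (w ^ 2) ^ 3 = 1 := by rw [← pow_mul, mul_comm, pow_mul, hw, one_pow]
  let l1 : H24 →* ℂˣ := (cycHom 3 w hw).comp κ
  let l2 : H24 →* ℂˣ := (cycHom 3 (w ^ 2) hw2).comp κ
  obtain ⟨n1, hn1⟩ := h.mult H24 l1 hχ
  obtain ⟨n2, hn2⟩ := h.mult H24 l2 hχ
  have hsum : (1 : ℂ) + (w : ℂ) + (w : ℂ) ^ 2 = 0 := by
    simpa [Finset.sum_range_succ] using hp.geom_sum_eq_zero (by norm_num : 1 < 3)
  have e : ∀ a : H24, conj ((l1 a : ℂˣ) : ℂ) + conj ((l2 a : ℂˣ) : ℂ) = ((w24 a.1 : ℤ) : ℂ) := by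
    intro a
    have e' : ((l1 a : ℂˣ) : ℂ) + ((l2 a : ℂˣ) : ℂ) = ((w24 a.1 : ℤ) : ℂ) := by
      have h3 : (w : ℂ) ^ 3 = 1 := hp.pow_eq_one
      simp only [l1, l2, κ, MonoidHom.coe_comp, Function.comp_apply, MonoidHom.mk'_apply, w24]
      rcases (by decide : ∀ k : Multiplicative (ZMod 3), k = 1 ∨ k = Multiplicative.ofAdd 1 ∨
        k = Multiplicative.ofAdd 2) (kap a.1.2) with e | e | e <;> rw [e]
      · simp; norm_num
      · rw [if_neg (by decide)]
        simp [cycHom, show (1 : ZMod 3).val = 1 from rfl]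
        linear_combination hsum
      · rw [if_neg (by decide)]
        simp [cycHom, show (2 : ZMod 3).val = 2 from rfl]
        linear_combination hsum + (w : ℂ) * h3
    rw [← map_add, e', map_intCast]
  have := h.weighted H24 w24 _ W24' typ_four.2.1 (Char.isCharacter_isClassFunction hχ)
  refine ⟨n1 + n2, ?_⟩
  have hadd : ∑ a : H24, (((w24 a.1 : ℤ) : ℂ)) * χ (h.emb a.1) = 24 * n1 + 24 * n2 := by
    simp only [← e, add_mul, Finset.sum_add_distrib, hn1, hn2, card_H.2.1]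
    norm_num
  rw [hadd] at this
  simp at this
  push_cast
  linear_combination -this

end Hyp

end Cfsg.Agent.J1Order
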